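import Mathlib
import Cfsg.Prelude.Def_Classical
import Cfsg.Agent.H463.Pair
import Cfsg.Agent.StandardComponent.AltAut

/-!
# Coprime pairs in the alternating groups

`x` is a 3-cycle, `y` an even 2-element inverting `x`, with one or two fixed points.
-/

set_option autoImplicit false

namespace Cfsg.Agent.H463.PairAlt

open Equiv Equiv.Perm Cfsg.Agent.H463.Pair

theorem exists_y {n : ℕ} (hn : 5 ≤ n) : ∃ y : Perm (Fin n), sign y = 1 ∧ (∃ k : ℕ, orderOf y = 2 ^ k) ∧
    n ≤ y.support.card + 2 ∧ y.support.card + 1 ≤ n ∧ ∃ a b, a ≠ b ∧ y a = b ∧ y b = a := by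
  set t := (n - 1) / 2 with ht
  obtain ⟨m, hm2, hms, hmc, hmo⟩ : ∃ m : Multiset ℕ, 2 ∈ m ∧ m.sum = 2 * t ∧ Even (m.sum + m.card) ∧
      ∀ a ∈ m, a = 2 ∨ a = 4 := by
    rcases Nat.even_or_odd t with he | ho
    · refine ⟨Multiset.replicate t 2, ?_, ?_, ?_, ?_⟩
      · rw [Multiset.mem_replicate]; exact ⟨by omega, rfl⟩
      · rw [Multiset.sum_replicate, smul_eq_mul, mul_comm]
      · rw [Multiset.sum_replicate, Multiset.card_replicate, smul_eq_mul]
        exact (he.mul_right 2).add he
      · intro a ha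
        exact Or.inl (Multiset.eq_of_mem_replicate ha)
    · have h3 : 3 ≤ t := by
        rcases ho with ⟨k, hk⟩
        omega
      refine ⟨4 ::ₘ Multiset.replicate (t - 2) 2, ?_, ?_, ?_, ?_⟩
      · rw [Multiset.mem_cons, Multiset.mem_replicate]
        exact Or.inr ⟨by omega, rfl⟩
      · rw [Multiset.sum_cons, Multiset.sum_replicate, smul_eq_mul]
        omega
      · rw [Multiset.sum_cons, Multiset.sum_replicate, smul_eq_mul, Multiset.card_cons, Multiset.card_replicate]
        rcases ho with ⟨k, hk⟩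
        rw [Nat.even_iff]
        omega
      · intro a ha
        rw [Multiset.mem_cons] at ha
        rcases ha with ha | ha
        · exact Or.inr ha
        · exact Or.inl (Multiset.eq_of_mem_replicate ha)
  obtain ⟨y, hy⟩ := (Equiv.Perm.exists_with_cycleType_iff (Fin n) (m := m)).2
    ⟨by rw [hms, Fintype.card_fin]; omega, fun a ha => by rcases hmo a ha with h | h <;> omega⟩
  have hsup : y.support.card = 2 * t := by rw [← sum_cycleType, hy, hms]
  refine ⟨y, ?_, ?_, by omega, by omega, ?_⟩
  · rw [sign_of_cycleType, hy]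
    exact hmc.neg_one_pow
  · have h1 : orderOf y ∣ 2 ^ 2 := by
      rw [← lcm_cycleType, hy, Multiset.lcm_dvd]
      intro a ha
      rcases hmo a ha with h | h
      · rw [h]; norm_num
      · rw [h]; norm_num
    obtain ⟨k, -, hk⟩ := (Nat.dvd_prime_pow Nat.prime_two).1 h1
    exact ⟨k, hk⟩
  · rw [← hy, mem_cycleType_iff] at hm2
    obtain ⟨c, τ, rfl, hd, -, hc⟩ := hm2
    rw [card_support_eq_two] at hc
    obtain ⟨a, b, hab, rfl⟩ := hc
    have h1 : τ a = a := by
      rcases hd a with h | h
      · rw [swap_apply_left] at h; exact absurd h.symm hab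
      · exact h
    have h2 : τ b = b := by
      rcases hd b with h | h
      · rw [swap_apply_right] at h; exact absurd h hab
      · exact h
    refine ⟨a, b, hab, ?_, ?_⟩
    · rw [Perm.mul_apply, h1, swap_apply_left]
    · rw [Perm.mul_apply, h2, swap_apply_right]

section key

variable {n : ℕ} {g y : Perm (Fin n)}

theorem moved_sq (hg3 : g ^ 3 = 1) {s : Fin n} (hs : g s ≠ s) : g (g s) ≠ s ∧ g (g s) ≠ g s := by
  have h3 : g (g (g s)) = s := by
    have := congrArg (fun f : Perm (Fin n) => f s) hg3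
    simpa [pow_succ] using this
  refine ⟨fun h => ?_, fun h => hs (g.injective h)⟩
  rw [h] at h3
  exact hs h3

theorem key (hg : g * y = y * g) (hg3 : g ^ 3 = 1) (hy : ∃ k : ℕ, orderOf y = 2 ^ k)
    (hfix : n ≤ y.support.card + 2) {s : Fin n} (hs : g s ≠ s) :
    y s ≠ s ∧ y s ≠ g s ∧ y s ≠ g (g s) ∧ g (y s) ≠ y s := by
  have hc : ∀ z, g (y z) = y (g z) := fun z => congrArg (fun f : Perm (Fin n) => f z) hg
  obtain ⟨h1, h2⟩ := moved_sq hg3 hs
  have hpow : ∀ j : ℕ, y s = (g ^ j) s → ∀ i : ℕ, (y ^ i) s = (g ^ (j * i)) s := by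
    intro j hj i
    induction i with
    | zero => simp
    | succ i ih =>
      have hcj : ∀ m : ℕ, ∀ z, y ((g ^ m) z) = (g ^ m) (y z) := by
        intro m z
        have h4 : y * g ^ m = g ^ m * y := ((show Commute y g from hg.symm).pow_right m).eq
        exact congrArg (fun f : Perm (Fin n) => f z) h4
      rw [pow_succ', Perm.mul_apply, ih, hcj, hj, ← Perm.mul_apply, ← pow_add]
      congr 2
  obtain ⟨k, hk⟩ := hy
  have hyk : (y ^ 2 ^ k) s = s := by rw [← hk, pow_orderOf_eq_one]; rfl
  have hj : ∀ j : ℕ, ¬ 3 ∣ j → y s ≠ (g ^ j) s := by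
    intro j hj3 h
    have h4 := hpow j h (2 ^ k)
    rw [hyk, pow_eq_pow_mod _ hg3] at h4
    have h5 : ¬ 3 ∣ j * 2 ^ k := by
      rw [Nat.Prime.dvd_mul Nat.prime_three]
      rintro (h | h)
      · exact hj3 h
      · have := Nat.prime_three.dvd_of_dvd_pow h
        omega
    have h6 : j * 2 ^ k % 3 = 1 ∨ j * 2 ^ k % 3 = 2 := by omega
    rcases h6 with h6 | h6
    · rw [h6, pow_one] at h4; exact hs h4.symm
    · rw [h6, pow_two, Perm.mul_apply] at h4; exact h1 h4.symm
  refine ⟨fun h => ?_, fun h => hj 1 (by omega) (by rw [pow_one]; exact h), fun h => hj 2 (by omega) (by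
    rw [pow_two, Perm.mul_apply]; exact h), fun h => ?_⟩
  · have h4 : y (g s) = g s := by rw [← hc, h]
    have h5 : y (g (g s)) = g (g s) := by rw [← hc, h4]
    have h6 : Disjoint ({s, g s, g (g s)} : Finset (Fin n)) y.support := by
      rw [Finset.disjoint_left]
      intro z hz
      simp only [Finset.mem_insert, Finset.mem_singleton] at hz
      rw [mem_support, not_not]
      rcases hz with rfl | rfl | rfl
      · exact h
      · exact h4
      · exact h5
    have h7 : ({s, g s, g (g s)} : Finset (Fin n)).card = 3 := by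
      rw [Finset.card_eq_three]
      exact ⟨_, _, _, hs.symm, h1.symm, h2.symm, rfl⟩
    have h8 := Finset.card_le_univ (({s, g s, g (g s)} : Finset (Fin n)) ∪ y.support)
    rw [Finset.card_union_of_disjoint h6, h7, Fintype.card_fin] at h8
    omega
  · rw [hc] at h
    exact hs (y.injective h)

/-- no element of order 3 commutes with `y` for `n ≤ 6` -/
theorem small (hn : n ≤ 6) (hg : g * y = y * g) (hg3 : g ^ 3 = 1) (hg1 : g ≠ 1) (hy : ∃ k : ℕ, orderOf y = 2 ^ k)
    (hfix : n ≤ y.support.card + 2) (hfix' : y.support.card + 1 ≤ n) : False := by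
  obtain ⟨s, hs⟩ : ∃ s, g s ≠ s := by
    by_contra h
    push Not at h
    exact hg1 (Equiv.ext h)
  obtain ⟨h1, h2⟩ := moved_sq hg3 hs
  obtain ⟨k1, k2, k3, k4⟩ := key hg hg3 hy hfix hs
  obtain ⟨l1, l2⟩ := moved_sq hg3 k4
  have h3 : g (g (g s)) = s := by
    have := congrArg (fun f : Perm (Fin n) => f s) hg3
    simpa [pow_succ] using this
  have hm : ∀ z, g z ≠ z → z ∈ y.support := fun z hz => mem_support.2 (key hg hg3 hy hfix hz).1
  have hmg : ∀ z, g z ≠ z → g (g z) ≠ g z := fun z hz => (moved_sq hg3 hz).2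
  have hsub : ({s, g s, g (g s), y s, g (y s), g (g (y s))} : Finset (Fin n)) ⊆ y.support := by
    intro z hz
    simp only [Finset.mem_insert, Finset.mem_singleton] at hz
    rcases hz with rfl | rfl | rfl | rfl | rfl | rfl
    · exact hm _ hs
    · exact hm _ (hmg _ hs)
    · exact hm _ (hmg _ (hmg _ hs))
    · exact hm _ k4
    · exact hm _ (hmg _ k4)
    · exact hm _ (hmg _ (hmg _ k4))
  have h3' : g (g (g (y s))) = y s := by
    have := congrArg (fun f : Perm (Fin n) => f (y s)) hg3
    simpa [pow_succ] using this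
  have e1 : g (y s) ≠ s := by
    intro h
    apply k3
    rw [← h3', h]
  have e2 : g (y s) ≠ g s := fun h => k1 (g.injective h)
  have e3 : g (y s) ≠ g (g s) := fun h => k2 (g.injective h)
  have e4 : g (g (y s)) ≠ s := by
    intro h
    apply k2
    rw [← h3', h]
  have e5 : g (g (y s)) ≠ g s := fun h => e1 (g.injective h)
  have e6 : g (g (y s)) ≠ g (g s) := fun h => e2 (g.injective h)
  have hcard : ({s, g s, g (g s), y s, g (y s), g (g (y s))} : Finset (Fin n)).card = 6 := by
    rw [Finset.card_insert_of_notMem, Finset.card_insert_of_notMem, Finset.card_insert_of_notMem,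
      Finset.card_eq_three.2 ⟨_, _, _, k4.symm, l1.symm, l2.symm, rfl⟩]
    · simp only [Finset.mem_insert, Finset.mem_singleton, not_or]
      exact ⟨k3.symm, e3.symm, e6.symm⟩
    · simp only [Finset.mem_insert, Finset.mem_singleton, not_or]
      exact ⟨h2.symm, k2.symm, e2.symm, e5.symm⟩
    · simp only [Finset.mem_insert, Finset.mem_singleton, not_or]
      exact ⟨hs.symm, h1.symm, k1.symm, e1.symm, e4.symm⟩
  have := Finset.card_le_card hsub
  omega

/-- no 3-cycle commutes with `y` -/
theorem large (hg : g * y = y * g) (hg3 : g.IsThreeCycle) (hy : ∃ k : ℕ, orderOf y = 2 ^ k)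
    (hfix : n ≤ y.support.card + 2) : False := by
  have hne : g.support.Nonempty := by
    rw [← Finset.card_pos, hg3.card_support]; omega
  obtain ⟨s, hs⟩ := hne
  have h3 : g ^ 3 = 1 := by rw [← hg3.orderOf]; exact pow_orderOf_eq_one g
  obtain ⟨k1, k2, k3, k4⟩ := key hg h3 hy hfix (mem_support.1 hs)
  have h4 := hg3.support_eq_iff_mem_support.2 hs
  have h5 : y s ∈ g.support := mem_support.2 k4
  rw [h4] at h5
  simp only [Finset.mem_insert, Finset.mem_singleton] at h5
  rcases h5 with h | h | h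
  · exact k1 h
  · exact k2 h
  · exact k3 h

end key

theorem pair_fin {n : ℕ} (hn : 5 ≤ n) : Pair45 (alternatingGroup (Fin n)) := by
  obtain ⟨y, hy1, hyk, hf1, hf2, a, b, hab, hya, hyb⟩ := exists_y hn
  obtain ⟨c, hc⟩ : ∃ c, y c = c := by
    by_contra h
    push Not at h
    have : y.support = Finset.univ := by
      ext z
      simp [h z]
    rw [this, Finset.card_univ, Fintype.card_fin] at hf2
    omega
  have hac : a ≠ c := by rintro rfl; exact hab (hc.symm.trans hya)
  have hbc : b ≠ c := by rintro rfl; exact hab (hyb.symm.trans hc)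
  have h3 : (swap a b * swap a c).IsThreeCycle := isThreeCycle_swap_mul_swap_same hab hac hbc
  set x : alternatingGroup (Fin n) := ⟨swap a b * swap a c, h3.mem_alternatingGroup⟩ with hx
  set Y : alternatingGroup (Fin n) := ⟨y, mem_alternatingGroup.2 hy1⟩ with hY
  have hxo : orderOf x = 3 := by
    rw [← Subgroup.orderOf_coe]; exact h3.orderOf
  have hYo : orderOf Y = orderOf y := by rw [← Subgroup.orderOf_coe]
  have hYk : ∃ k : ℕ, orderOf Y = 2 ^ k := by rw [hYo]; exact hyk
  have hconj : Y * x * Y⁻¹ = x⁻¹ := by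
    rw [mul_inv_eq_iff_eq_mul]
    apply Subtype.ext
    show y * (swap a b * swap a c) = (swap a b * swap a c)⁻¹ * y
    have h5 : y * swap a b = swap a b * y := by rw [mul_swap_eq_swap_mul, hya, hyb, swap_comm]
    have h6 : y * swap a c = swap b c * y := by rw [mul_swap_eq_swap_mul, hya, hc]
    have h7 : swap a b * swap b c = swap a c * swap a b := by
      rw [mul_swap_eq_swap_mul, swap_apply_right, swap_apply_of_ne_of_ne hac.symm hbc.symm]
    rw [mul_inv_rev, swap_inv, swap_inv, ← mul_assoc, h5, mul_assoc, h6, ← mul_assoc, h7]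
  have hyn : Y ∈ Subgroup.normalizer (Subgroup.zpowers x : Set (alternatingGroup (Fin n))) := by
    rw [Subgroup.mem_normalizer_iff]
    intro g
    constructor
    · rintro ⟨m, rfl⟩
      show Y * x ^ m * Y⁻¹ ∈ _
      rw [← conj_zpow, hconj]
      exact zpow_mem (inv_mem (Subgroup.mem_zpowers x)) m
    · rintro ⟨m, hm⟩
      refine ⟨-m, ?_⟩
      have h5 : g = Y⁻¹ * x ^ m * Y := by
        have : x ^ m = Y * g * Y⁻¹ := hm
        rw [this]; group
      have h6 : Y⁻¹ * x * Y = x⁻¹ := by
        have h7 : x = Y⁻¹ * x⁻¹ * Y := by rw [← hconj]; group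
        have h8 := congrArg (·⁻¹) h7
        simp only [mul_inv_rev, inv_inv] at h8
        rw [← mul_assoc] at h8
        exact h8.symm
      rw [h5]
      have h9 : Y⁻¹ * x ^ m * Y = (Y⁻¹ * x * Y) ^ m := by
        have := conj_zpow (a := Y⁻¹) (b := x) (i := m)
        rw [inv_inv] at this
        exact this.symm
      show x ^ (-m) = _
      rw [h9, h6, inv_zpow, zpow_neg]
  have hzs : Group.IsSolvable ↥(Subgroup.zpowers x) := Group.isSolvable_of_comm fun u v => by
    obtain ⟨u, m, hm⟩ := u
    obtain ⟨v, l, hl⟩ := v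
    apply Subtype.ext
    show u * v = v * u
    rw [← hm, ← hl]
    exact ((Commute.refl x).zpow_zpow m l).eq
  have hH : Group.IsSolvable ↥(Subgroup.zpowers x ⊔ Subgroup.zpowers Y) := solvable_sup_zpowers hzs hyn
  refine ⟨3, x, Y, Nat.prime_three, by norm_num, ?_, ?_, ⟨1, by rw [hxo, pow_one]⟩, hYk,
    solvable_closure hH (Subgroup.mem_sup_left (Subgroup.mem_zpowers x)) (Subgroup.mem_sup_right (Subgroup.mem_zpowers Y)),
    ?_⟩
  · intro h
    rw [h, orderOf_one] at hxo
    omega
  · intro h
    have h5 : y = 1 := congrArg Subtype.val h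
    apply hab
    rw [← hya, h5]; rfl
  · intro e he
    have hcom : (e⁻¹ x : alternatingGroup (Fin n)) * Y = Y * e⁻¹ x := by
      have h5 := congrArg (fun z => e⁻¹ z) he.eq
      simp only [map_mul] at h5
      rwa [MulAut.inv_apply_self] at h5
    have hcom' : ((e⁻¹ x : alternatingGroup (Fin n)) : Perm (Fin n)) * y = y * ((e⁻¹ x : alternatingGroup (Fin n)) : Perm (Fin n)) :=
      congrArg Subtype.val hcom
    rcases Nat.lt_or_ge n 7 with h7 | h7
    · have ho : orderOf ((e⁻¹ x : alternatingGroup (Fin n)) : Perm (Fin n)) = 3 := by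
        rw [Subgroup.orderOf_coe, ← hxo]
        exact orderOf_injective (e⁻¹ : MulAut _).toMonoidHom (e⁻¹ : MulAut _).injective x
      refine small (by omega) hcom' ?_ ?_ hyk hf1 hf2
      · rw [← ho]; exact pow_orderOf_eq_one _
      · intro h
        rw [h, orderOf_one] at ho
        omega
    · exact large hcom' (StandardComponent.AltAut.isThreeCycle_map h7 e⁻¹ h3) hyk hf1

/-- **`Pair45` for the alternating groups.** -/
theorem pair {G : Type*} [Group G] (h : Cfsg.IsAlternating G) : Pair45 G := by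
  obtain ⟨n, hn, ⟨e⟩⟩ := h
  exact Pair.congr e.symm (pair_fin hn)

end Cfsg.Agent.H463.PairAlt
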