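import Cfsg.Agent.H463.LiePair
import Cfsg.Agent.Mrg.Omega.ML.Ex.Ext

/-! Coprime pairs in the simple groups of Lie type in characteristic two; regular unipotent elements. -/

set_option autoImplicit false

namespace Cfsg.Agent.H463.LieTwo

open Cfsg Cfsg.Agent.H463.Pair

universe u

/-- **`Pair45` for the simple groups of Lie type in characteristic two.** -/
theorem pair {Y : Type u} [Group Y] [Finite Y] (hs : IsSimpleGroup Y) (hY : IsLieTypeChar 2 Y) : Pair45 Y := by
  have : Fact (Nat.Prime 2) := ⟨Nat.prime_two⟩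
  obtain ⟨P, U, hne, h, hc⟩ := Omega.ML.LieRow.CRB.hasSplitAb_of_lie hs hY
  exact LiePair.pair_two h hne (LiePair.torus_comm h hc)

/-- **Regular unipotent elements in characteristic two**: an element `z ≠ 1` of 2-power order whose centraliser
is a 2-group. -/
theorem exists_regular {Y : Type u} [Group Y] [Finite Y] (hs : IsSimpleGroup Y) (hY : IsLieTypeChar 2 Y) :
    ∃ z : Y, z ≠ 1 ∧ (∃ k, orderOf z = 2 ^ k) ∧ ∀ g : Y, g * z = z * g → ∀ r, r.Prime → r ≠ 2 → orderOf g ≠ r := by
  have : Fact (Nat.Prime 2) := ⟨Nat.prime_two⟩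
  obtain ⟨P, U, hne, h, hc⟩ := Omega.ML.LieRow.CRB.hasSplitAb_of_lie hs hY
  obtain ⟨z, hzU, hz1, hz⟩ := LieSplit.exists_regular h hne (LiePair.torus_comm h hc)
  exact ⟨z, hz1, exists_orderOf_two_pow h.isP hzU, hz⟩

end Cfsg.Agent.H463.LieTwo
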