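import Cfsg.Agent.H463.LieOdd
import Cfsg.Agent.H463.LieTwo

/-!
# Regular unipotent elements in the simple groups of Lie type, every characteristic

* **`exists_regular`** : an element `z ≠ 1` of order a power of `p` whose centraliser is a `p`-group.
-/

set_option autoImplicit false

namespace Cfsg.Agent.H463.LieReg

open Cfsg

universe u

/-- The characteristic of a group of Lie type is prime. -/
theorem prime {p : ℕ} {Y : Type*} [Group Y] (hY : IsLieTypeChar p Y) : p.Prime := by
  rcases hY with h | h | h | h | h | h | h | h | h | h | h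
  · obtain ⟨F, _, _, _, h⟩ := h; exact CharP.char_is_prime F p
  · obtain ⟨F, _, _, _, h⟩ := h; exact CharP.char_is_prime F p
  · obtain ⟨F, _, _, _, h⟩ := h; exact CharP.char_is_prime F p
  · obtain ⟨F, _, _, _, h⟩ := h; exact CharP.char_is_prime F p
  · obtain ⟨F, _, _, _, h⟩ := h; exact CharP.char_is_prime F p
  · obtain ⟨F, _, _, _, h⟩ := h; exact CharP.char_is_prime F p
  · obtain ⟨F, _, _, _, h⟩ := h; exact CharP.char_is_prime F p
  · obtain ⟨F, _, _, _, h⟩ := h; exact CharP.char_is_prime F p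
  · rw [h.1]; exact Nat.prime_two
  · rw [h.1]; exact Nat.prime_two
  · rw [h.1]; exact Nat.prime_three

/-- **Regular unipotent elements.** -/
theorem exists_regular {p : ℕ} {Y : Type u} [Group Y] [Finite Y] (hs : IsSimpleGroup Y) (hY : IsLieTypeChar p Y) :
    ∃ z : Y, z ≠ 1 ∧ (∃ k, orderOf z = p ^ k) ∧ ∀ g : Y, g * z = z * g → ∀ r, r.Prime → r ≠ p → orderOf g ≠ r := by
  by_cases hp2 : p = 2
  · subst hp2
    exact LieTwo.exists_regular hs hY
  · exact LieOdd.exists_regular (prime hY) hp2 hs hY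

/-- **Regular unipotent elements**, with `IsPGroup`. -/
theorem exists_regular_isPGroup {p : ℕ} {Y : Type u} [Group Y] [Finite Y] (hs : IsSimpleGroup Y)
    (hY : IsLieTypeChar p Y) :
    ∃ z : Y, z ≠ 1 ∧ (∃ k, orderOf z = p ^ k) ∧ IsPGroup p ↥(Subgroup.centralizer ({z} : Set Y)) := by
  obtain ⟨z, h1, h2, h3⟩ := exists_regular hs hY
  exact ⟨z, h1, h2, LieOdd.isPGroup_of_regular (prime hY) h3⟩

end Cfsg.Agent.H463.LieReg
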