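import Cfsg.Agent.H463.LieAb
import Cfsg.Agent.OddHalf.LongSL.Exc
import Cfsg.Agent.OddHalf.LongSL.Tw

/-!
# Split (B,N)-pairs with commutative torus of even order: exceptional groups in odd characteristic

* `exc`, `tw`, `ree` : `SplitEv p G`.
-/

set_option autoImplicit false
set_option linter.unusedSectionVars false

namespace Cfsg.Agent.H463.LieExc

open Cfsg Cfsg.Agent.H463.LieAb
open CoxeterSystem Cfsg.Agent.ChevalleyStructure.CoxeterGeom Cfsg.Agent.Tits.Roots Cfsg.Agent.Tits.Core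
  Cfsg.Agent.Tits.RootComb Cfsg.Agent.Nodes.Comb Cfsg.Agent.Nodes.Reps Cfsg.Agent.Nodes.BNOf
  Cfsg.Agent.Nodes.RGDTwGen Cfsg.Agent.Nodes.RGDChev Cfsg.Agent.Nodes.RGDFold
open Cfsg.Lie Cfsg.Agent.ChevalleyStructure Cfsg.Agent.ChevalleyStructure.Elts
  Cfsg.Agent.ChevalleyStructure.RootVec Cfsg.Agent.ChevalleyStructure.RootVecTab
  Cfsg.Agent.ChevalleyStructure.NPerm Cfsg.Agent.ChevalleyStructure.CoxeterGeomTypes
  Cfsg.Agent.ChevalleyStructure.TwistedU Cfsg.Agent.ChevalleyStructure.TwistedFix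
open Cfsg.Agent.OddHalf.LongSL Cfsg.Agent.OddHalf.LongSL.Chev Cfsg.Agent.OddHalf.LongSL.Fold
open Cfsg.Agent.ChevalleyStructure.GraphSymm

universe u

/-- the diagonal subgroup is commutative -/
theorem diag_comm {D : ChevalleyDatum} {K : Type u} [Field K] (hD : InList D) {g k : GL D.Idx K}
    (hg : g ∈ D.diagonalSubgroup K) (hk : k ∈ D.diagonalSubgroup K) : g * k = k * g := by
  obtain ⟨χ, h1⟩ := HMatDiagAll.mem_torus.1 (HMatDiagAll.diagonalSubgroup_le_torus hD hg)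
  obtain ⟨ψ, h2⟩ := HMatDiagAll.mem_torus.1 (HMatDiagAll.diagonalSubgroup_le_torus hD hk)
  apply Units.ext
  rw [Units.val_mul, Units.val_mul, h1, h2, Matrix.diagonal_mul_diagonal, Matrix.diagonal_mul_diagonal]
  congr 1
  funext i
  exact mul_comm _ _

section Exc

variable {D : ChevalleyDatum} {l : ℕ} {M : CoxeterMatrix (Fin l)} (hp : IsType D l M) (K : Type) [Field K]

theorem hG_ne (j : Fin l) (hodd : chkOdd D j = true) (h2 : (2 : K) ≠ 0) : hG hp.inList (D.simple j) (-1 : K) ≠ 1 := by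
  intro h3
  obtain ⟨s, hs, hs'⟩ := List.any_eq_true.1 hodd
  rw [List.mem_range] at hs
  have h4 := conj_hG hp K j hs (-1) (neg_ne_zero.2 one_ne_zero) 1
  rw [h3, one_mul, inv_one, mul_one, beq_iff_eq.1 hs', zpow_one, mul_one] at h4
  have h5 := xG_injective hp.inList hs h4
  apply h2
  linear_combination h5

theorem neg_one_mul_self : (-1 : Matrix.SpecialLinearGroup (Fin 2) K) * -1 = 1 := by simp

theorem hG_sq (j : Fin l) : hG hp.inList (D.simple j) (-1 : K) * hG hp.inList (D.simple j) (-1 : K) = 1 := by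
  rw [← phi_neg_one hp K j, ← Subgroup.coe_mul, ← map_mul, neg_one_mul_self, map_one]
  rfl

theorem orderOf_of {G : Type*} [Group G] {x : G} (h : x * x = 1) (h1 : x ≠ 1) : orderOf x = 2 := by
  have : Fact (Nat.Prime 2) := ⟨Nat.prime_two⟩
  exact orderOf_eq_prime (by rw [pow_two]; exact h) h1

include hp in
/-- the Chevalley groups -/
theorem chev [Finite K] {p : ℕ} [CharP K p] (hp2 : (2 : K) ≠ 0) (j : Fin l) (hodd : chkOdd D j = true)
    (hs : IsSimpleGroup ↥(D.group K)) : SplitEv p ↥(D.group K) := by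
  have hpp : Fact p.Prime := ⟨CharP.char_is_prime K p⟩
  have hfin : Finite M.Group := Cfsg.Agent.Nodes.RGDChev.finite_W hp M.toCoxeterSystem
  have hne : Nonempty (Fin l) := ⟨j⟩
  refine splitEv_of_rgd hpp.out (Cfsg.Agent.Nodes.RGDChev.rgd (K := K) hp M.toCoxeterSystem p)
    (Cfsg.Agent.Nodes.RGDChev.G1_eq_top hp _) ?_
    (t := ⟨hG hp.inList (D.simple j) (-1), ?_⟩) ?_ ?_
  · intro s hs t ht
    exact Subtype.ext (diag_comm hp.inList (Subgroup.mem_subgroupOf.1 hs) (Subgroup.mem_subgroupOf.1 ht))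
  · rw [← phi_neg_one hp K j]
    exact (phi hp K j (-1)).2
  · exact Subgroup.mem_subgroupOf.2 (hG_mem_diagonal hp.inList (simple_lt hp.inList (lt_rank hp j))
      (neg_ne_zero.2 one_ne_zero))
  · refine orderOf_of (Subtype.ext (hG_sq hp K j)) fun h => hG_ne hp K j hodd hp2 (congrArg Subtype.val h)

end Exc

/-- **The exceptional Chevalley groups in odd characteristic.** -/
theorem exc {p : ℕ} (hp2 : p ≠ 2) {G : Type*} [Group G] [IsSimpleGroup G] (hG : IsExceptionalChevChar p G) :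
    SplitEv p G := by
  obtain ⟨F, _, _, _, h⟩ := hG
  have h2 : (2 : F) ≠ 0 := by
    intro h2
    have h3 : CharP F 2 := CharTwo.of_one_ne_zero_of_two_eq_zero one_ne_zero h2
    exact hp2 (CharP.eq F ‹CharP F p› h3)
  have k1 := chk_G2
  have k2 := chk_F4
  have k3 := chk_E6
  have k4 := Chev.chk_E7
  have k5 := Chev.chk_E8
  rw [Bool.and_eq_true] at k1 k2 k4 k5
  rcases h with ⟨-, ⟨e⟩⟩ | ⟨⟨e⟩⟩ | ⟨⟨e⟩⟩ | ⟨⟨e⟩⟩ | ⟨⟨e⟩⟩
  · exact (chev (l := 2) (M := CoxeterMatrix.G₂) (by simp [IsType, typeList]) F h2 1 k1.2 e.symm.isSimpleGroup).congr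
      e.symm
  · exact (chev (l := 4) (M := CoxeterMatrix.F₄) (by simp [IsType, typeList]) F h2 3 k2.2 e.symm.isSimpleGroup).congr
      e.symm
  · exact (chev (l := 6) (M := CoxeterMatrix.E₆) (by simp [IsType, typeList]) F h2 0 (by decide +kernel)
      e.symm.isSimpleGroup).congr e.symm
  · exact (chev (l := 7) (M := CoxeterMatrix.E₇) (by simp [IsType, typeList]) F h2 0 k4.2 e.symm.isSimpleGroup).congr
      e.symm
  · exact (chev (l := 8) (M := CoxeterMatrix.E₈) (by simp [IsType, typeList]) F h2 0 k5.2 e.symm.isSimpleGroup).congr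
      e.symm

/-! ### The folded groups -/

section Fold

variable {D : ChevalleyDatum} {l : ℕ} {M' : CoxeterMatrix (Fin l)} {hp : IsType D l M'} {K : Type} [Field K]
variable {m : ℕ} {M : CoxeterMatrix (Fin m)} {A : Fin m → Fin m → ℤ} (h : IsCartan M A)
variable {J : Fin m → List (Fin l)} {L : List (List ℕ)} {σ : GL D.Idx K →* GL D.Idx K} {ρ ρ' : ℕ → ℕ}
    {f : ℕ → K → K} {G : Subgroup (GL D.Idx K)} (FD : FoldData D M A J L)
    (FG : FoldGrp hp K J L σ ρ ρ' f G) (i₀ : Fin m) (j₀ : Fin l)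
    (hA : ∀ k < D.nroots, (V D J k = sr i₀ ↔ k ∈ [D.simple j₀]))
    (hA' : ∀ k < D.nroots, (V D J k = -sr i₀ ↔ k ∈ [D.neg (D.simple j₀)])) (φ : K →+* K)
    (hsp : ∀ t, σ (xG hp.inList (D.simple j₀) t) = xG hp.inList (D.simple j₀) (φ t))
    (hsn : ∀ t, σ (xG hp.inList (D.neg (D.simple j₀)) t) = xG hp.inList (D.neg (D.simple j₀)) (φ t))

include h FD FG hA hA' hsp hsn in
/-- the folded groups -/
theorem fold [Finite K] {p : ℕ} [CharP K p] (h2 : (2 : K) ≠ 0) (hodd : chkOdd D j₀ = true)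
    (hs : IsSimpleGroup ↥G) : SplitEv p ↥G := by
  have hpp : Fact p.Prime := ⟨CharP.char_is_prime K p⟩
  have hfin : Finite M.Group := Cfsg.Agent.Nodes.RGDFold.finite_W (hp := hp) M.toCoxeterSystem h FD
  have hne : Nonempty (Fin m) := ⟨i₀⟩
  have hmem : hG hp.inList (D.simple j₀) (-1 : K) ∈ G := by
    rw [← psi0_neg_one j₀ φ]
    exact psi0_mem M.toCoxeterSystem h FD FG i₀ j₀ hA hA' φ hsp hsn p (-1)
  refine splitEv_of_rgd hpp.out (Cfsg.Agent.Nodes.RGDFold.rgd M.toCoxeterSystem h FD FG p)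
    (Cfsg.Agent.Nodes.RGDFold.G1_eq_top M.toCoxeterSystem h FD FG p) ?_
    (t := ⟨hG hp.inList (D.simple j₀) (-1), hmem⟩) ?_ ?_
  · intro s hs t ht
    exact Subtype.ext (diag_comm hp.inList (Subgroup.mem_subgroupOf.1 hs).1 (Subgroup.mem_subgroupOf.1 ht).1)
  · exact Subgroup.mem_subgroupOf.2 ⟨hG_mem_diagonal hp.inList (simple_lt hp.inList (lt_rank hp j₀))
      (neg_ne_zero.2 one_ne_zero), hmem⟩
  · refine orderOf_of (Subtype.ext (hG_sq hp K j₀)) fun h => hG_ne hp K j₀ hodd h2 (congrArg Subtype.val h)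

end Fold

theorem d4 {K : Type} [Field K] [Fintype K] {q : ℕ} (hq : IsPrimePow q) (hK : Fintype.card K = q ^ 3)
    {p : ℕ} [CharP K p] (h2 : (2 : K) ≠ 0) (hsim : IsSimpleGroup ↥(twistedD4 K q)) : SplitEv p ↥(twistedD4 K q) := by
  classical
  obtain ⟨φ, hφ⟩ := D4Fixed.exists_frob hq hK
  have hs : ∀ (r : ℕ) (hr : r < 24), (symmD4a.σ ⟨r, hr⟩).val = r → symmD4a.ε ⟨r, hr⟩ = 1 → ∀ t : K,
      D4Fixed.sig φ (Elts.xG Cfsg.Agent.Nodes.RGDTwD4.hp.inList r t) =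
        Elts.xG Cfsg.Agent.Nodes.RGDTwD4.hp.inList r (φ t) := by
    intro r hr h1 h2 t
    rw [Cfsg.Agent.Nodes.RGDTwD4.xG_eq]
    have h3 := D4U.sig_xG φ hr h1 h2 t
    rw [Int.cast_one, one_mul] at h3
    exact h3
  have hchk := Tw.chk_D4
  rw [Bool.and_eq_true, Bool.and_eq_true] at hchk
  exact fold Cfsg.Agent.Nodes.RGDTwD4.isCartan Cfsg.Agent.Nodes.RGDTwD4.foldData
    (Cfsg.Agent.Nodes.RGDTwD4.foldGrp hφ (D4Fixed.twisted_le_fix hK hφ)) 0 1
    (by
      intro k hk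
      rw [Cfsg.Agent.Nodes.RGDTwD4.cls0 k hk]
      show k ∈ [14] ↔ k ∈ [chevD4.simple 1]
      rw [Tw.simple_D4.1])
    (by
      intro k hk
      rw [Cfsg.Agent.Nodes.RGDTwD4.cls0' k hk]
      show k ∈ [9] ↔ k ∈ [chevD4.neg (chevD4.simple 1)]
      rw [Tw.simple_D4.1, Tw.simple_D4.2])
    φ
    (by
      show ∀ t : K, D4Fixed.sig φ (Elts.xG _ (chevD4.simple 1) t) = Elts.xG _ (chevD4.simple 1) (φ t)
      rw [Tw.simple_D4.1]
      exact hs 14 (by norm_num) (by decide +kernel) (by decide +kernel))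
    (by
      show ∀ t : K, D4Fixed.sig φ (Elts.xG _ (chevD4.neg (chevD4.simple 1)) t) = Elts.xG _ (chevD4.neg (chevD4.simple 1)) (φ t)
      rw [Tw.simple_D4.1, Tw.simple_D4.2]
      exact hs 9 (by norm_num) (by decide +kernel) (by decide +kernel))
    h2 hchk.1.2 hsim

theorem e6 {K : Type} [Field K] [Fintype K] {q : ℕ} (hq : IsPrimePow q) (hK : Fintype.card K = q ^ 2)
    {p : ℕ} [CharP K p] (h2 : (2 : K) ≠ 0) (hsim : IsSimpleGroup ↥(twistedE6 K q)) : SplitEv p ↥(twistedE6 K q) := by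
  classical
  obtain ⟨φ, hφ, hqq⟩ := TwE6Basic.exists_frob hq hK
  have hchk := Tw.chk_E6
  rw [Bool.and_eq_true, Bool.and_eq_true] at hchk
  have hs : ∀ (r : ℕ) (_ : r < 72), TwistedE6Sigma.rho r = r → ∀ t : K,
      TwE6Basic.sg φ (Elts.xG Cfsg.Agent.Nodes.RGDTwE6.hp.inList r t) =
        Elts.xG Cfsg.Agent.Nodes.RGDTwE6.hp.inList r (φ t) := by
    intro r hr h1 t
    apply Units.ext
    have h3 := TwistedE6Sigma.sig_xE6 φ (g := Elts.xG Cfsg.Agent.Nodes.RGDTwE6.hp.inList r t) hr (Elts.coe_xG _ _ _)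
    rw [h1, TwistedE6Sigma.eps_of_rho_eq r hr h1, Int.cast_one, one_mul] at h3
    exact h3
  exact fold Cfsg.Agent.Nodes.RGDTwE6.isCartan Cfsg.Agent.Nodes.RGDTwE6.foldData
    (Cfsg.Agent.Nodes.RGDTwE6.foldGrp hφ hqq) 0 1
    (by
      intro k hk
      rw [Cfsg.Agent.Nodes.RGDTwE6.cls 0 k hk]
      show k ∈ [46] ↔ k ∈ [chevE6.simple 1]
      rw [Tw.simple_E6.1])
    (by
      intro k hk
      rw [Cfsg.Agent.Nodes.RGDTwE6.cls' 0 k hk]
      show k ∈ [25] ↔ k ∈ [chevE6.neg (chevE6.simple 1)]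
      rw [Tw.simple_E6.1, Tw.simple_E6.2])
    φ
    (by
      show ∀ t : K, TwE6Basic.sg φ (Elts.xG _ (chevE6.simple 1) t) = Elts.xG _ (chevE6.simple 1) (φ t)
      rw [Tw.simple_E6.1]
      exact hs 46 (by norm_num) (by decide +kernel))
    (by
      show ∀ t : K, TwE6Basic.sg φ (Elts.xG _ (chevE6.neg (chevE6.simple 1)) t) = Elts.xG _ (chevE6.neg (chevE6.simple 1)) (φ t)
      rw [Tw.simple_E6.1, Tw.simple_E6.2]
      exact hs 25 (by norm_num) (by decide +kernel))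
    h2 hchk.1.2 hsim

/-- **The twisted groups `²E₆(q)`, `³D₄(q)` in odd characteristic.** -/
theorem tw {p : ℕ} (hp2 : p ≠ 2) {G : Type*} [Group G] [IsSimpleGroup G] (hG : IsTwistedE6D4Char p G) :
    SplitEv p G := by
  obtain ⟨K, _, _, _, q, hq, h⟩ := hG
  have h2 : (2 : K) ≠ 0 := by
    intro h2
    have h3 : CharP K 2 := CharTwo.of_one_ne_zero_of_two_eq_zero one_ne_zero h2
    exact hp2 (CharP.eq K ‹CharP K p› h3)
  rcases h with ⟨hK, ⟨e⟩⟩ | ⟨hK, ⟨e⟩⟩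
  · exact (e6 hq hK h2 e.symm.isSimpleGroup).congr e.symm
  · exact (d4 hq hK h2 e.symm.isSimpleGroup).congr e.symm

/-! ### The Ree groups -/

open Cfsg.Agent.LieRecognition.ReeAbs Cfsg.Agent.LieRecognition.ReeSylowThree in
theorem ree {G : Type*} [Group G] (hG : Cfsg.Lie.IsoRee G) : SplitEv 3 G := by
  obtain ⟨K, _, _, m, hm, hK, ⟨e⟩⟩ := hG
  refine SplitEv.congr e.symm ?_
  obtain ⟨U, h, n, D⟩ := Cfsg.Agent.ChevalleyStructure.Ree.Data.exists_data hK
  refine ⟨FixBN.ReeSplit.bnPair D, uSub D, ⟨n, rfl⟩, FixBN.ReeSplit.split hK D, ?_, h (-1),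
    FixBN.ReeSplit.h_mem_bSub D (-1), ?_⟩
  · intro a ha b hb
    obtain ⟨a, rfl⟩ := FixBN.ReeSplit.mem_inf D ha.1 ha.2
    obtain ⟨b, rfl⟩ := FixBN.ReeSplit.mem_inf D hb.1 hb.2
    rw [← D.h_mul, ← D.h_mul, mul_comm]
  · refine orderOf_of ?_ fun h1 => ?_
    · rw [← D.h_mul]
      simp [D.h_one]
    · rw [← D.h_one] at h1
      have h2 := congrArg Units.val (FixBN.ReeSplit.h_inj D h1)
      have h3 : ((-1 : Kˣ) : K) = -1 := by simp
      rw [h3, Units.val_one] at h2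
      have h4 : (2 : K) = 0 := by linear_combination -h2
      have h5 : CharP K 2 := CharTwo.of_one_ne_zero_of_two_eq_zero one_ne_zero h4
      obtain ⟨k, -, hk⟩ := FiniteField.card K 2
      rw [hK] at hk
      have h6 : Even (2 ^ (k : ℕ)) := (even_two).pow_of_ne_zero k.ne_zero
      rw [← hk] at h6
      have h7 : Odd (3 ^ (2 * m + 1)) := Odd.pow (by decide)
      exact (Nat.not_even_iff_odd.2 h7) h6

end Cfsg.Agent.H463.LieExc
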