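import Cfsg.Agent.H463.LieOrth
import Cfsg.Agent.H463.LieExc
import Cfsg.Agent.H463.LieSplit

/-!
# Regular unipotent elements in the simple groups of Lie type in odd characteristic

* `splitAb` : every simple group of Lie type in odd characteristic `p` has a split (B,N)-pair of characteristic `p`
  with commutative torus;
* **`exists_regular`** : an element `z ≠ 1` of order a power of `p` whose centraliser is a `p`-group;
* `exists_regular_isPGroup` : the same with `IsPGroup p (centralizer {z})`.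
-/

set_option autoImplicit false

namespace Cfsg.Agent.H463.LieOdd

open Cfsg Cfsg.Agent.H463.LieAb

theorem splitAb {p : ℕ} (hp2 : p ≠ 2) {Y : Type*} [Group Y] (hs : IsSimpleGroup Y) (hY : IsLieTypeChar p Y) :
    SplitAb p Y := by
  rcases hY with h | h | h | h | h | h | h | h | h | h | h
  · exact LieAb.psl h
  · exact LieAb.psp h
  · exact LieAb.psu h
  · exact LieOrth.poOdd h
  · exact LieOrth.poPlus h
  · exact LieOrth.poMinus hp2 h
  · exact (LieExc.exc hp2 h).ab
  · exact (LieExc.tw hp2 h).ab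
  · exact absurd h.1 hp2
  · exact absurd h.1 hp2
  · obtain ⟨rfl, h⟩ := h
    exact (LieExc.ree h).ab

/-- Regular unipotent elements from a split (B,N)-pair with commutative torus. -/
theorem exists_regular_of_splitAb {p : ℕ} (hp : p.Prime) {Y : Type*} [Group Y] [Finite Y] (h : SplitAb p Y) :
    ∃ z : Y, z ≠ 1 ∧ (∃ k, orderOf z = p ^ k) ∧ ∀ g : Y, g * z = z * g → ∀ r, r.Prime → r ≠ p → orderOf g ≠ r := by
  have : Fact p.Prime := ⟨hp⟩
  obtain ⟨P, U, hne, h, hc⟩ := h
  obtain ⟨z, hzU, hz1, hz⟩ := LieSplit.exists_regular h hne hc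
  obtain ⟨k, hk⟩ := IsPGroup.iff_orderOf.1 h.isP ⟨z, hzU⟩
  exact ⟨z, hz1, ⟨k, by rw [← hk, Subgroup.orderOf_mk]⟩, hz⟩

/-- **Regular unipotent elements in odd characteristic.** -/
theorem exists_regular {p : ℕ} (hp : p.Prime) (hp2 : p ≠ 2) {Y : Type*} [Group Y] [Finite Y] (hs : IsSimpleGroup Y)
    (hY : IsLieTypeChar p Y) :
    ∃ z : Y, z ≠ 1 ∧ (∃ k, orderOf z = p ^ k) ∧ ∀ g : Y, g * z = z * g → ∀ r, r.Prime → r ≠ p → orderOf g ≠ r :=
  exists_regular_of_splitAb hp (splitAb hp2 hs hY)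

theorem isPGroup_of_regular {p : ℕ} (hp : p.Prime) {Y : Type*} [Group Y] [Finite Y] {z : Y}
    (h : ∀ g : Y, g * z = z * g → ∀ r, r.Prime → r ≠ p → orderOf g ≠ r) :
    IsPGroup p ↥(Subgroup.centralizer ({z} : Set Y)) := by
  have : Fact p.Prime := ⟨hp⟩
  rw [IsPGroup.iff_card]
  refine ⟨_, Nat.eq_prime_pow_of_unique_prime_dvd (p := p) Nat.card_pos.ne' fun {r} hr hrd => ?_⟩
  by_contra hne
  have : Fact r.Prime := ⟨hr⟩
  obtain ⟨g, hg⟩ := exists_prime_orderOf_dvd_card' r hrd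
  exact h g (Subgroup.mem_centralizer_singleton_iff.1 g.2) r hr hne (by rw [Subgroup.orderOf_coe, hg])

/-- **Regular unipotent elements in odd characteristic**, with `IsPGroup`. -/
theorem exists_regular_isPGroup {p : ℕ} (hp : p.Prime) (hp2 : p ≠ 2) {Y : Type*} [Group Y] [Finite Y]
    (hs : IsSimpleGroup Y) (hY : IsLieTypeChar p Y) :
    ∃ z : Y, z ≠ 1 ∧ (∃ k, orderOf z = p ^ k) ∧ IsPGroup p ↥(Subgroup.centralizer ({z} : Set Y)) := by
  obtain ⟨z, h1, h2, h3⟩ := exists_regular hp hp2 hs hY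
  exact ⟨z, h1, h2, isPGroup_of_regular hp h3⟩

end Cfsg.Agent.H463.LieOdd
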