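import Cfsg.Agent.H463.LieEv
import Cfsg.Agent.H463.LiePair

/-!
# Coprime pairs in `PSL₂(q)`, `q` odd
-/

set_option autoImplicit false

namespace Cfsg.Agent.H463.LiePSL

open Cfsg Matrix Cfsg.Agent.Nodes.RGDTypeA Cfsg.Agent.H463.LieEv Cfsg.Agent.H463.Pair

section three

variable {F : Type*} [Field F]

/-- the Weyl element -/
def w (F : Type*) [Field F] : Matrix.SpecialLinearGroup (Fin 2) F := ⟨!![0, 1; -1, 0], by simp⟩

theorem scalar_two (c : F) : (Matrix.scalar (Fin 2) c : Matrix (Fin 2) (Fin 2) F) = !![c, 0; 0, c] := by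
  ext i j
  fin_cases i <;> fin_cases j <;> simp

/-- two matrices with the same image differ by a sign -/
theorem exists_scalar {A B : Matrix.SpecialLinearGroup (Fin 2) F} (h : pr 1 F A = pr 1 F B) :
    ∃ c : F, c * c = 1 ∧ ∀ i j, A.1 i j = c * B.1 i j := by
  have h1 : B⁻¹ * A ∈ (pr 1 F).ker := by
    rw [MonoidHom.mem_ker, map_mul, map_inv, h, inv_mul_cancel]
  rw [ker_pr, Matrix.SpecialLinearGroup.mem_center_iff] at h1
  obtain ⟨c, hc, hs⟩ := h1
  refine ⟨c, by rw [← pow_two]; simpa using hc, fun i j => ?_⟩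
  have h2 : A = B * (B⁻¹ * A) := by group
  have h3 : A.1 = B.1 * (B⁻¹ * A).1 := congrArg Subtype.val h2
  have h4 : (B⁻¹ * A).1 = Matrix.scalar (Fin 2) c := hs.symm
  rw [h3, h4, scalar_two, Matrix.mul_apply, Fin.sum_univ_two]
  fin_cases j
  · simp [mul_comm]
  · simp [mul_comm]

theorem pair_three [Fintype F] (h4 : Fintype.card F % 4 = 3) (hq : 4 ≤ Fintype.card F) :
    Pair45 (Matrix.ProjectiveSpecialLinearGroup (Fin 2) F) := by
  classical
  have hsq : ∀ z : F, z * z ≠ -1 := by
    intro z hz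
    exact (FiniteField.isSquare_neg_one_iff.1 ⟨z, hz.symm⟩) h4
  have h2 : (2 : F) ≠ 0 := by
    intro h
    apply hsq 1
    linear_combination h
  set k := (Fintype.card F - 1) / 2 with hk
  have hk1 : k ≠ 1 := by omega
  have hk0 : k ≠ 0 := by omega
  have hr := Nat.minFac_prime hk1
  set r := k.minFac with hrdef
  have hrk : r ∣ k := Nat.minFac_dvd k
  have hr2 : r ≠ 2 := by
    intro h
    rw [h] at hrk
    omega
  have hrF : r ∣ Nat.card Fˣ := by
    rw [Nat.card_units, Nat.card_eq_fintype_card]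
    have : Fintype.card F - 1 = 2 * k := by omega
    rw [this]
    exact hrk.mul_left 2
  have : Fact r.Prime := ⟨hr⟩
  obtain ⟨a, ha⟩ := exists_prime_orderOf_dvd_card' r hrF
  have har : a ^ r = 1 := by rw [← ha]; exact pow_orderOf_eq_one a
  have ha2 : (a : F) * a ≠ 1 := by
    intro h
    have h1 : a ^ 2 = 1 := by
      apply Units.ext
      rw [Units.val_pow_eq_pow_val, Units.val_one, pow_two, h]
    have h3 := orderOf_dvd_of_pow_eq_one h1
    rw [ha] at h3
    exact hr2 ((Nat.prime_dvd_prime_iff_eq hr Nat.prime_two).1 h3)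
  have hD : ∏ i, (![(a : F), ((a⁻¹ : Fˣ) : F)] : Fin 2 → F) i = 1 := by
    rw [Fin.prod_univ_two]
    show (a : F) * ((a⁻¹ : Fˣ) : F) = 1
    exact a.mul_inv
  set X := dg _ hD with hX
  have hXv : X.1 = !![(a : F), 0; 0, ((a⁻¹ : Fˣ) : F)] := by
    show diagonal _ = _
    ext i j
    fin_cases i <;> fin_cases j <;> simp
  set x := pr 1 F X with hx
  have hx1 : x ≠ 1 := by
    intro h
    have h3 := dg_center (n := 1) hD h 0 1
    apply ha2
    have h5 : (a : F) = ((a⁻¹ : Fˣ) : F) := h3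
    calc (a : F) * a = a * ((a⁻¹ : Fˣ) : F) := by rw [← h5]
      _ = 1 := a.mul_inv
  have hXpow : ∀ k : ℕ, (X ^ k).1 = !![((a ^ k : Fˣ) : F), 0; 0, (((a⁻¹) ^ k : Fˣ) : F)] := by
    intro k
    induction k with
    | zero =>
      rw [pow_zero, pow_zero, pow_zero]
      ext i j
      fin_cases i <;> fin_cases j <;> simp
    | succ k ih =>
      rw [pow_succ, Matrix.SpecialLinearGroup.coe_mul, ih, hXv]
      ext i j
      fin_cases i <;> fin_cases j <;> simp [pow_succ]
  have hxr : orderOf x = r := by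
    refine orderOf_eq_prime ?_ hx1
    rw [hx, ← map_pow, ← map_one (pr 1 F)]
    congr 1
    apply Subtype.ext
    rw [hXpow, har, inv_pow, har]
    ext i j
    fin_cases i <;> fin_cases j <;> simp
  set y := pr 1 F (w F) with hy
  have hyy : y * y = 1 := by
    rw [hy, ← map_mul]
    show _ ∈ (pr 1 F).ker
    rw [ker_pr, Matrix.SpecialLinearGroup.mem_center_iff]
    refine ⟨-1, by simp, ?_⟩
    show _ = (w F).1 * (w F).1
    ext i j
    fin_cases i <;> fin_cases j <;> simp [w, Matrix.mul_apply, Fin.sum_univ_two]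
  have hy1 : y ≠ 1 := by
    intro h
    rw [hy, ← map_one (pr 1 F)] at h
    obtain ⟨c, -, hc⟩ := exists_scalar h
    have h3 := hc 0 1
    simp [w] at h3
  have hyo : orderOf y = 2 := orderOf_of hyy hy1
  have hwx : y * x * y⁻¹ = x⁻¹ := by
    rw [hy, hx, ← map_mul, ← map_inv, ← map_mul, ← map_inv]
    congr 1
    rw [mul_inv_eq_iff_eq_mul, eq_inv_mul_iff_mul_eq]
    apply Subtype.ext
    rw [Matrix.SpecialLinearGroup.coe_mul, Matrix.SpecialLinearGroup.coe_mul, hXv]
    ext i j
    fin_cases i <;> fin_cases j <;> simp [w]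
  have hyn : y ∈ Subgroup.normalizer (Subgroup.zpowers x : Set (Matrix.ProjectiveSpecialLinearGroup (Fin 2) F)) := by
    rw [Subgroup.mem_normalizer_iff]
    have hyi : y⁻¹ = y := inv_eq_of_mul_eq_one_left hyy
    have key : ∀ g ∈ Subgroup.zpowers x, y * g * y⁻¹ ∈ Subgroup.zpowers x := by
      rintro _ ⟨m, rfl⟩
      show y * x ^ m * y⁻¹ ∈ _
      rw [← conj_zpow, hwx]
      exact zpow_mem (inv_mem (Subgroup.mem_zpowers x)) m
    intro g
    refine ⟨key g, fun hg => ?_⟩
    have h3 := key _ hg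
    rw [hyi] at h3
    have h5 : y * (y * g * y) * y = (y * y) * g * (y * y) := by group
    rw [h5, hyy, one_mul, mul_one] at h3
    exact h3
  have hzs : Group.IsSolvable ↥(Subgroup.zpowers x) := Group.isSolvable_of_comm fun a b => by
    obtain ⟨m, hm⟩ := a.2
    obtain ⟨n, hn⟩ := b.2
    apply Subtype.ext
    show (a : Matrix.ProjectiveSpecialLinearGroup (Fin 2) F) * b = b * a
    rw [← hm, ← hn]
    exact ((Commute.refl x).zpow_zpow m n).eq
  have hH : Group.IsSolvable ↥(Subgroup.zpowers x ⊔ Subgroup.zpowers y) := solvable_sup_zpowers hzs hyn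
  refine of_no_inv_cent hH (Subgroup.mem_sup_left (Subgroup.mem_zpowers x)) hx1 hr hr2 ⟨1, by rw [hxr, pow_one]⟩ ?_ ?_
  · have h5 := Subgroup.orderOf_dvd_natCard (Subgroup.zpowers x ⊔ Subgroup.zpowers y)
      (Subgroup.mem_sup_right (Subgroup.mem_zpowers y))
    rwa [hyo] at h5
  · intro g hg hgo
    obtain ⟨G, rfl⟩ := pr_surjective (n := 1) (F := F) g
    have h3 : pr 1 F (G * X) = pr 1 F (X * G) := by rw [map_mul, map_mul]; exact hg
    obtain ⟨c, hcc, hc⟩ := exists_scalar h3
    have hmul1 : ∀ i j, (G * X).1 i j = G.1 i 0 * X.1 0 j + G.1 i 1 * X.1 1 j := by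
      intro i j
      rw [Matrix.SpecialLinearGroup.coe_mul, Matrix.mul_apply, Fin.sum_univ_two]
    have hmul2 : ∀ i j, (X * G).1 i j = X.1 i 0 * G.1 0 j + X.1 i 1 * G.1 1 j := by
      intro i j
      rw [Matrix.SpecialLinearGroup.coe_mul, Matrix.mul_apply, Fin.sum_univ_two]
    have hX00 : X.1 0 0 = (a : F) := by rw [hXv]; rfl
    have hX01 : X.1 0 1 = 0 := by rw [hXv]; rfl
    have hX10 : X.1 1 0 = 0 := by rw [hXv]; rfl
    have hX11 : X.1 1 1 = ((a⁻¹ : Fˣ) : F) := by rw [hXv]; rfl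
    have hai : (a : F) * ((a⁻¹ : Fˣ) : F) = 1 := a.mul_inv
    have hc' : c = 1 ∨ c = -1 := mul_self_eq_one_iff.1 hcc
    have hb0 : ((a⁻¹ : Fˣ) : F) ≠ 0 := (a⁻¹).ne_zero
    have ha0 : (a : F) ≠ 0 := a.ne_zero
    set b : F := ((a⁻¹ : Fˣ) : F) with hb
    have hab1 : b ≠ c * a := by
      intro h
      rcases hc' with rfl | rfl
      · apply ha2
        rw [one_mul] at h
        rw [h] at hai
        exact hai
      · apply hsq a
        rw [h] at hai
        linear_combination -hai
    have hab2 : (a : F) ≠ c * b := by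
      intro h
      rcases hc' with rfl | rfl
      · apply hab1
        rw [h]; ring
      · apply hab1
        rw [h]; ring
    have hG01 : G.1 0 1 = 0 := by
      have h5 := hc 0 1
      rw [hmul1, hmul2, hX00, hX01, hX11] at h5
      have h6 : G.1 0 1 * (b - c * a) = 0 := by linear_combination h5
      exact (mul_eq_zero.1 h6).resolve_right (sub_ne_zero.2 hab1)
    have hG10 : G.1 1 0 = 0 := by
      have h5 := hc 1 0
      rw [hmul1, hmul2, hX00, hX10, hX11] at h5
      have h6 : G.1 1 0 * (a - c * b) = 0 := by linear_combination h5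
      exact (mul_eq_zero.1 h6).resolve_right (sub_ne_zero.2 hab2)
    have hdet : G.1 0 0 * G.1 1 1 = 1 := by
      have h5 := G.2
      rw [Matrix.det_fin_two, hG01, zero_mul, sub_zero] at h5
      exact h5
    -- the square
    have hg2 : pr 1 F G * pr 1 F G = 1 := by rw [← pow_two, ← hgo]; exact pow_orderOf_eq_one _
    rw [← map_mul, ← map_one (pr 1 F)] at hg2
    obtain ⟨d, -, hd⟩ := exists_scalar hg2
    have hd0 := hd 0 0
    have hd1 := hd 1 1
    have hsq1 : ∀ i j, (G * G).1 i j = G.1 i 0 * G.1 0 j + G.1 i 1 * G.1 1 j := by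
      intro i j
      rw [Matrix.SpecialLinearGroup.coe_mul, Matrix.mul_apply, Fin.sum_univ_two]
    have hone : ∀ i, ((1 : Matrix.SpecialLinearGroup (Fin 2) F)).1 i i = 1 := by
      intro i
      rw [Matrix.SpecialLinearGroup.coe_one, Matrix.one_apply_eq]
    rw [hsq1, hG01, hone] at hd0
    rw [hsq1, hG10, hone] at hd1
    have h7 : (G.1 0 0 - G.1 1 1) * (G.1 0 0 + G.1 1 1) = 0 := by linear_combination hd0 - hd1
    rcases mul_eq_zero.1 h7 with h8 | h8
    · -- `G` is scalar
      have h9 : G ∈ (pr 1 F).ker := by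
        rw [ker_pr, Matrix.SpecialLinearGroup.mem_center_iff]
        refine ⟨G.1 0 0, ?_, ?_⟩
        · have h10 : G.1 0 0 * G.1 0 0 = 1 := by linear_combination hdet + G.1 0 0 * h8
          rw [Fintype.card_fin, pow_two]
          exact h10
        · rw [scalar_two]
          show _ = G.1
          ext i j
          fin_cases i <;> fin_cases j
          · rfl
          · exact hG01.symm
          · exact hG10.symm
          · show G.1 0 0 = G.1 1 1
            linear_combination h8
      have h10 : pr 1 F G = 1 := h9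
      rw [h10, orderOf_one] at hgo
      omega
    · apply hsq (G.1 0 0)
      linear_combination G.1 0 0 * h8 - hdet

end three

/-- `Pair45` from a split (B,N)-pair with commutative torus and an involution in `B`. -/
theorem pair_of_splitEv {p : ℕ} (hp : p.Prime) (hp2 : p ≠ 2) {K : Type*} [Group K] [Finite K]
    (h : LieAb.SplitEv p K) : Pair45 K := by
  have : Fact p.Prime := ⟨hp⟩
  obtain ⟨P, U, hne, h, hc, t, ht, ht2⟩ := h
  refine LiePair.pair_odd h hne hp2 hc ?_
  have h1 := Subgroup.orderOf_dvd_natCard P.B ht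
  rwa [ht2] at h1

/-- **The linear groups in odd characteristic.** -/
theorem psl {p : ℕ} (hp2 : p ≠ 2) {G : Type*} [Group G] [Finite G] [IsSimpleGroup G] (hG : IsPSLChar p G) :
    Pair45 G := by
  obtain ⟨F, _, _, _, n, hn, hq, ⟨e⟩⟩ := hG
  have hp : Fact p.Prime := Nodes.RGDClass.fact_prime (F := F)
  have h2 : (2 : F) ≠ 0 := LieOrth.two_ne hp2
  have hs : IsSimpleGroup (Matrix.ProjectiveSpecialLinearGroup (Fin n) F) := e.symm.isSimpleGroup
  refine Pair.congr e.symm ?_
  have hfin : Finite (Matrix.ProjectiveSpecialLinearGroup (Fin n) F) := Finite.of_equiv _ e.toEquiv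
  rcases Nat.lt_or_ge n 3 with h | h
  · obtain rfl : n = 2 := by omega
    by_cases h4 : Fintype.card F % 4 = 3
    · exact pair_three h4 (hq rfl)
    · obtain ⟨z, hz⟩ := FiniteField.isSquare_neg_one_iff.2 h4
      exact pair_of_splitEv hp.out hp2 (splitEv_psl_two h2 hs hz.symm)
  · obtain ⟨n, rfl⟩ : ∃ k, n = k + 3 := ⟨n - 3, by omega⟩
    exact pair_of_splitEv hp.out hp2 (splitEv_psl_three h2 hs)

/-- **`Pair45` for the simple groups of Lie type in odd characteristic.** -/
theorem pair_odd {p : ℕ} (hp : p.Prime) (hp2 : p ≠ 2) {Y : Type*} [Group Y] [Finite Y] (hs : IsSimpleGroup Y)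
    (hY : IsLieTypeChar p Y) : Pair45 Y := by
  rcases hY with h | h | h | h | h | h | h | h | h | h | h
  · exact psl hp2 h
  · exact pair_of_splitEv hp hp2 (LieEv.psp hp2 h)
  · exact pair_of_splitEv hp hp2 (LieEv.psu hp2 h)
  · exact pair_of_splitEv hp hp2 (LieEv.poOdd h)
  · exact pair_of_splitEv hp hp2 (LieEv.poPlus hp2 h)
  · exact pair_of_splitEv hp hp2 (LieEv.poMinus hp2 h)
  · exact pair_of_splitEv hp hp2 (LieExc.exc hp2 h)
  · exact pair_of_splitEv hp hp2 (LieExc.tw hp2 h)
  · exact absurd h.1 hp2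
  · exact absurd h.1 hp2
  · obtain ⟨rfl, h⟩ := h
    exact pair_of_splitEv hp hp2 (LieExc.ree h)

end Cfsg.Agent.H463.LiePSL
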