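import Mathlib
import Cfsg.Agent.Solvable.Carter

/-!
# Elements of prime power order: lifting, commuting modulo a subgroup

* `exists_lift` : an element of order a power of `p` in a quotient is the image of such an element;
* `exists_missed` : a proper subgroup of a finite soluble group misses a conjugacy class of elements of prime
  power order;
* `eq_one_of_conj` : elements of coprime orders commuting up to a commuting commutator commute.
-/

set_option autoImplicit false

namespace Cfsg.Agent.H463.Elts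

variable {G Q : Type*} [Group G] [Group Q]

/-- For `n ≠ 0` and any `k` there is `m ≡ 1 mod p ^ k` with `n ∣ p ^ a * m`. -/
theorem exists_exponent {p : ℕ} (hp : p.Prime) (n k : ℕ) (hn : n ≠ 0) :
    ∃ m a : ℕ, n ∣ p ^ a * m ∧ m % p ^ k = 1 % p ^ k := by
  obtain ⟨a, m, hm, hnm⟩ := Nat.exists_eq_pow_mul_and_not_dvd hn p hp.ne_one
  have hc : m.Coprime (p ^ k) := Nat.Coprime.pow_right k ((Nat.Prime.coprime_iff_not_dvd hp).2 hm).symm
  obtain ⟨c, -, hc'⟩ := Nat.exists_mul_mod_eq_of_coprime 1 hc (pow_pos hp.pos k).ne'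
  exact ⟨m * c, a, by rw [hnm, ← mul_assoc]; exact dvd_mul_right _ _, hc'⟩

/-- Elements of prime power order lift to such elements. -/
theorem exists_lift [Finite G] {p : ℕ} (hp : p.Prime) (f : G →* Q) (hf : Function.Surjective f) {q : Q} {k : ℕ}
    (hq : orderOf q = p ^ k) : ∃ g : G, f g = q ∧ ∃ l : ℕ, orderOf g = p ^ l := by
  obtain ⟨g, rfl⟩ := hf q
  obtain ⟨m, a, h1, h2⟩ := exists_exponent hp (orderOf g) k (orderOf_pos g).ne'
  refine ⟨g ^ m, ?_, ?_⟩
  · rw [map_pow, ← pow_mod_orderOf, hq, h2, ← hq, pow_mod_orderOf, pow_one]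
  · have h3 : (g ^ m) ^ (p ^ a) = 1 := by
      rw [← pow_mul, mul_comm]
      exact orderOf_dvd_iff_pow_eq_one.1 h1
    obtain ⟨l, -, hl⟩ := (Nat.dvd_prime_pow hp).1 (orderOf_dvd_of_pow_eq_one h3)
    exact ⟨l, hl⟩

/-- `x n` conjugate to `x`, `n` commuting with `x`, coprime orders: `n = 1`. -/
theorem eq_one_of_conj {x y n : G} (h : y * x * y⁻¹ = x * n) (hc : Commute x n)
    (hcop : (orderOf n).Coprime (orderOf x)) : n = 1 := by
  have h1 : (x * n) ^ orderOf x = 1 := by
    rw [← h, conj_pow, pow_orderOf_eq_one]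
    simp
  rw [hc.mul_pow, pow_orderOf_eq_one, one_mul] at h1
  have h2 := orderOf_dvd_of_pow_eq_one h1
  rw [← orderOf_eq_one_iff]
  exact Nat.Coprime.eq_one_of_dvd hcop h2

/-- A proper subgroup of a finite soluble group misses a class of elements of prime power order. -/
theorem exists_missed [Finite G] (hG : Group.IsSolvable G) {H : Subgroup G} (hH : H ≠ ⊤) :
    ∃ (r : ℕ) (a : G), r.Prime ∧ (∃ k : ℕ, orderOf a = r ^ k) ∧ ∀ g : G, g * a * g⁻¹ ∉ H := by
  obtain ⟨M, hM, hHM⟩ := (eq_top_or_exists_le_coatom H).resolve_left hH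
  let K := M.normalCore
  have hKM : K ≤ M := M.normalCore_le
  let π := QuotientGroup.mk' K
  have hπ : Function.Surjective π := QuotientGroup.mk'_surjective K
  have hnt : Nontrivial (G ⧸ K) := QuotientGroup.nontrivial_iff.2 (fun h => hM.1 (top_le_iff.1 (h ▸ hKM)))
  obtain ⟨r, V, hr, hVn, hVp, hVc, hV1, -⟩ := Solvable.Carter.exists_min_normal (G ⧸ K)
  have hkerM : π.ker ≤ M := by rw [QuotientGroup.ker_mk']; exact hKM
  -- `M ∩ V` modulo `K` is trivial
  have hinf : ∀ m ∈ M, π m ∈ V → π m = 1 := by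
    have hVM : M ⊔ V.comap π = ⊤ := by
      rcases hM.le_iff.1 (le_sup_left : M ≤ M ⊔ V.comap π) with h | h
      · exact h
      · exfalso
        -- `V.comap π ≤ M` is normal, hence in the core
        have h1 : V.comap π ≤ M := le_trans le_sup_right (le_of_eq h)
        have h2 : V.comap π ≤ K := Subgroup.normal_le_normalCore.2 h1
        apply hV1
        rw [eq_bot_iff]
        intro v hv
        obtain ⟨g, rfl⟩ := hπ v
        have : g ∈ K := h2 hv
        exact (QuotientGroup.eq_one_iff g).2 this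
    have hnorm : (M ⊓ V.comap π).Normal := by
      rw [← Subgroup.normalizer_eq_top_iff, ← top_le_iff, ← hVM]
      refine sup_le ?_ ?_
      · intro m hm
        rw [Subgroup.mem_normalizer_iff]
        intro h
        constructor
        · rintro ⟨h1, h2⟩
          refine ⟨M.mul_mem (M.mul_mem hm h1) (M.inv_mem hm), ?_⟩
          exact Subgroup.Normal.conj_mem inferInstance h h2 m
        · rintro ⟨h1, h2⟩
          have h3 : h = m⁻¹ * (m * h * m⁻¹) * m⁻¹⁻¹ := by group
          rw [h3]
          refine ⟨M.mul_mem (M.mul_mem (M.inv_mem hm) h1) (M.inv_mem (M.inv_mem hm)), ?_⟩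
          exact Subgroup.Normal.conj_mem inferInstance _ h2 m⁻¹
      · intro v hv
        have key : ∀ w ∈ V.comap π, ∀ h ∈ M ⊓ V.comap π, w * h * w⁻¹ ∈ M ⊓ V.comap π := by
          rintro w hw h ⟨h1, h2⟩
          have h3 : π (w * h * w⁻¹) = π h := by
            rw [map_mul, map_mul, map_inv]
            have h4 : π w * π h = π h * π w := by
              have := hVc.is_comm.comm (⟨π w, hw⟩ : V) ⟨π h, h2⟩
              exact congrArg Subtype.val this
            rw [h4, mul_inv_cancel_right]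
          have h5 : (w * h * w⁻¹) * h⁻¹ ∈ M := hkerM (by
            rw [MonoidHom.mem_ker, map_mul, h3, map_inv, mul_inv_cancel])
          refine ⟨?_, ?_⟩
          · have := M.mul_mem h5 h1
            simpa using this
          · show π (w * h * w⁻¹) ∈ V
            rw [h3]; exact h2
        rw [Subgroup.mem_normalizer_iff]
        intro h
        refine ⟨key v hv h, fun hh => ?_⟩
        have := key v⁻¹ (inv_mem hv) _ hh
        have h3 : v⁻¹ * (v * h * v⁻¹) * v⁻¹⁻¹ = h := by group
        rwa [h3] at this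
    have hle : M ⊓ V.comap π ≤ K := Subgroup.normal_le_normalCore.2 inf_le_left
    intro m hm hmV
    exact (QuotientGroup.eq_one_iff m).2 (hle ⟨hm, hmV⟩)
  obtain ⟨⟨v, hv⟩, hv1'⟩ := (Subgroup.ne_bot_iff_exists_ne_one (H := V)).1 hV1
  have hv1 : v ≠ 1 := fun h => hv1' (Subtype.ext h)
  have : Fact r.Prime := ⟨hr⟩
  obtain ⟨k, hk⟩ := IsPGroup.iff_orderOf.1 hVp ⟨v, hv⟩
  rw [Subgroup.orderOf_mk] at hk
  obtain ⟨a, rfl, ha⟩ := exists_lift hr π hπ hk
  refine ⟨r, a, hr, ha, fun g hg => hv1 ?_⟩
  have h1 := hinf _ (hHM hg) (by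
    rw [map_mul, map_mul, map_inv]
    exact Subgroup.Normal.conj_mem inferInstance _ hv _)
  rw [map_mul, map_mul, map_inv] at h1
  have h2 : π a = (π g)⁻¹ * (π g * π a * (π g)⁻¹) * π g := by group
  rw [h2, h1]; group

end Cfsg.Agent.H463.Elts
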