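import Mathlib
import Cfsg.Agent.FixBN.SplitRGD
import Cfsg.Agent.FixBN.ReeSplit
import Cfsg.Agent.Nodes.RGDClass
import Cfsg.Agent.Nodes.RGDChev
import Cfsg.Agent.Nodes.RGDTwAll
import Cfsg.Agent.Mrg.Omega.Lie.End.RowTable
import Cfsg.Prelude.Def_LieTypeChar

/-!
# Split (B, N)-pairs with commutative torus

* `SplitAb p K`, `SplitEv p K` : the group `K` has a split (B,N)-pair of characteristic `p`, of positive rank, with
  commutative torus (and with `|B|` even);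
* `SplitAb.congr`, `splitAb_of_rgd`, `splitEv_of_rgd`;
* the families: `psl`, `psp`, `psu`, `poOdd`, `poPlus`, `exc`, `tw`, `ree`.
-/

set_option autoImplicit false

namespace Cfsg.Agent.H463.LieAb

open Cfsg
open CoxeterSystem Cfsg.Agent.ChevalleyStructure.CoxeterGeom Cfsg.Agent.Tits.Roots Cfsg.Agent.Tits.Core
  Cfsg.Agent.Tits.RootComb Cfsg.Agent.Nodes.Comb Cfsg.Agent.Nodes.Reps Cfsg.Agent.Nodes.BNOf
open Cfsg.Agent.FixBN

/-- A split (B,N)-pair of characteristic `p`, of positive rank, with commutative torus. -/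
def SplitAb (p : ℕ) (K : Type*) [Group K] : Prop :=
  ∃ (P : Cfsg.BNPair K) (U : Subgroup K), P.S.Nonempty ∧ Split P p U ∧
    ∀ a ∈ P.B ⊓ P.N, ∀ b ∈ P.B ⊓ P.N, a * b = b * a

/-- A split (B,N)-pair of characteristic `p`, of positive rank, with commutative torus and `|B|` even. -/
def SplitEv (p : ℕ) (K : Type*) [Group K] : Prop :=
  ∃ (P : Cfsg.BNPair K) (U : Subgroup K), P.S.Nonempty ∧ Split P p U ∧
    (∀ a ∈ P.B ⊓ P.N, ∀ b ∈ P.B ⊓ P.N, a * b = b * a) ∧ ∃ t ∈ P.B, orderOf t = 2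

theorem SplitEv.ab {p : ℕ} {K : Type*} [Group K] (h : SplitEv p K) : SplitAb p K := by
  obtain ⟨P, U, h1, h2, h3, -⟩ := h
  exact ⟨P, U, h1, h2, h3⟩

theorem SplitAb.congr {p : ℕ} {K L : Type*} [Group K] [Group L] (e : K ≃* L) (h : SplitAb p K) : SplitAb p L := by
  obtain ⟨P, U, hne, hs, hc⟩ := h
  refine ⟨Transport.mapBN e P, U.map e.toMonoidHom, hne.image _, Transport.split e P hs, ?_⟩
  rintro _ ⟨⟨a, ha, rfl⟩, ⟨a', ha', e1⟩⟩ _ ⟨⟨b, hb, rfl⟩, ⟨b', hb', e2⟩⟩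
  have h1 : a' = a := e.injective e1
  have h2 : b' = b := e.injective e2
  subst h1 h2
  rw [← map_mul, ← map_mul, hc a' ⟨ha, ha'⟩ b' ⟨hb, hb'⟩]

theorem SplitEv.congr {p : ℕ} {K L : Type*} [Group K] [Group L] (e : K ≃* L) (h : SplitEv p K) : SplitEv p L := by
  obtain ⟨P, U, hne, hs, hc, t, ht, ht2⟩ := h
  refine ⟨Transport.mapBN e P, U.map e.toMonoidHom, hne.image _, Transport.split e P hs, ?_, e t, ⟨t, ht, rfl⟩, ?_⟩
  · rintro _ ⟨⟨a, ha, rfl⟩, ⟨a', ha', e1⟩⟩ _ ⟨⟨b, hb, rfl⟩, ⟨b', hb', e2⟩⟩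
    have h1 : a' = a := e.injective e1
    have h2 : b' = b := e.injective e2
    subst h1 h2
    rw [← map_mul, ← map_mul, hc a' ⟨ha, ha'⟩ b' ⟨hb, hb'⟩]
  · rw [← ht2]; exact orderOf_injective e.toMonoidHom e.injective t

section rgd

variable {I W Y : Type*} [Fintype I] [DecidableEq I] [Group W] [Group Y] {M : CoxeterMatrix I}
  {cs : CoxeterSystem M W} {A : I → I → ℤ} {h : IsCartan M A} {p : ℕ} {T : Subgroup Y} {n : I → Y}
  {X : (I → ℤ) → Subgroup Y}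

theorem splitAb_of_rgd [Finite W] [Nonempty I] [IsSimpleGroup Y] (hp : p.Prime) (R : RGD cs h p T n X)
    (hG : Nodes.RGDLib.G1 cs h X = ⊤) (ab : ∀ s ∈ T, ∀ t ∈ T, s * t = t * s) : SplitAb p Y := by
  obtain ⟨i⟩ := (inferInstance : Nonempty I)
  have hg := NodeRGD.gen_of_top R hG
  have hne : (R.bnPair hg).S.Nonempty := ⟨n i, i, rfl⟩
  have hs := SplitRGD.split_of_rgd hp R hg (Cfsg.Agent.Tits.OfBN.normalCore_eq_bot (R.bnPair hg) hne)
  refine ⟨R.bnPair hg, _, hne, hs, ?_⟩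
  have h1 : (R.bnPair hg).B ⊓ (R.bnPair hg).N = T := R.B_inf_NN
  rw [h1]
  exact ab

theorem splitEv_of_rgd [Finite W] [Nonempty I] [IsSimpleGroup Y] (hp : p.Prime) (R : RGD cs h p T n X)
    (hG : Nodes.RGDLib.G1 cs h X = ⊤) (ab : ∀ s ∈ T, ∀ t ∈ T, s * t = t * s) {t : Y} (ht : t ∈ T)
    (ht2 : orderOf t = 2) : SplitEv p Y := by
  obtain ⟨i⟩ := (inferInstance : Nonempty I)
  have hg := NodeRGD.gen_of_top R hG
  have hne : (R.bnPair hg).S.Nonempty := ⟨n i, i, rfl⟩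
  have hs := SplitRGD.split_of_rgd hp R hg (Cfsg.Agent.Tits.OfBN.normalCore_eq_bot (R.bnPair hg) hne)
  have h1 : (R.bnPair hg).B ⊓ (R.bnPair hg).N = T := R.B_inf_NN
  refine ⟨R.bnPair hg, _, hne, hs, ?_, t, ?_, ht2⟩
  · rw [h1]
    exact ab
  · have h2 : t ∈ (R.bnPair hg).B ⊓ (R.bnPair hg).N := by rw [h1]; exact ht
    exact h2.1

end rgd

/-! ### Linear groups -/

section psl

open Matrix Cfsg.Agent.Nodes.RGDTypeA

theorem T_diag {ι F : Type*} [Field F] [DecidableEq ι] [Fintype ι] {g : SpecialLinearGroup ι F} (hg : g ∈ T ι F) :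
    g.1 = diagonal (fun a => g.1 a a) := by
  ext a b
  by_cases hab : a = b
  · subst hab; rw [diagonal_apply_eq]
  · rw [diagonal_apply_ne _ hab]
    by_contra h2
    exact hab (hg a b h2)

theorem T_comm {ι F : Type*} [Field F] [DecidableEq ι] [Fintype ι] {g k : SpecialLinearGroup ι F} (hg : g ∈ T ι F)
    (hk : k ∈ T ι F) : g * k = k * g := by
  apply Subtype.ext
  change g.1 * k.1 = k.1 * g.1
  rw [T_diag hg, T_diag hk, diagonal_mul_diagonal, diagonal_mul_diagonal]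
  congr 1
  funext a
  exact mul_comm _ _

theorem psl_comm {n : ℕ} {F : Type*} [Field F] : ∀ s ∈ (T (Fin (n + 1)) F).map (pr n F),
    ∀ t ∈ (T (Fin (n + 1)) F).map (pr n F), s * t = t * s := by
  rintro _ ⟨s, hs, rfl⟩ _ ⟨t, ht, rfl⟩
  rw [← map_mul, ← map_mul, T_comm hs ht]

theorem psl {p : ℕ} {G : Type*} [Group G] [IsSimpleGroup G] (hG : IsPSLChar p G) : SplitAb p G := by
  obtain ⟨F, _, _, _, n, hn, -, ⟨e⟩⟩ := hG
  have : Fact p.Prime := Nodes.RGDClass.fact_prime (F := F)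
  obtain ⟨n, rfl⟩ : ∃ k, n = k + 1 := ⟨n - 1, by omega⟩
  have hs : IsSimpleGroup (Matrix.ProjectiveSpecialLinearGroup (Fin (n + 1)) F) := e.symm.isSimpleGroup
  have : Finite (Cfsg.Agent.LieRecognition.BNCox.cA n).Group :=
    Nodes.RootsA.finite_W (Cfsg.Agent.LieRecognition.BNCox.cA n).toCoxeterSystem (Nodes.RootsA.isCartan n)
  have : Nonempty (Fin n) := ⟨⟨0, by omega⟩⟩
  exact (splitAb_of_rgd Fact.out (rgd_psl (Cfsg.Agent.LieRecognition.BNCox.cA n).toCoxeterSystem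
    (Nodes.RootsA.isCartan n)) (G1_psl_eq_top _ _) psl_comm).congr e.symm

end psl

/-! ### Classical groups with a Witt frame -/

section witt

open Cfsg.Agent.Nodes Cfsg.Agent.Nodes.WittAll Cfsg.Agent.Nodes.WittU Cfsg.Agent.Nodes.WittInst
  Cfsg.Agent.TitsThree Cfsg.Agent.TitsThree.Siegel Cfsg.Agent.TitsThree.SiegelGen
  Cfsg.Agent.TitsThree.WittFrame Cfsg.Agent.TitsThree.WBridge Cfsg.Agent.TitsThree.WittWeyl
  Cfsg.Agent.TitsThree.FrameCN
open Cfsg.Agent.Omega.Lie.End.KWittRow Cfsg.Agent.Omega.Lie.End.KWittFour Cfsg.Agent.Omega.Lie.End.RowWitt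

section gen

variable {F : Type*} [Field F] {V : Type*} [AddCommGroup V] [Module F V] {H : HForm F V} {n : ℕ}
  {Fr : Frame H (Fin n)} {K : Type*} [Group K] (M : Model Fr K)

/-- elements of the torus which commute on the anisotropic part commute -/
theorem tor_comm_of {G0 : Subgroup (V ≃ₗ[F] V)} {p : ℕ} (hA : AmbT Fr p G0) {s t : V ≃ₗ[F] V}
    (hs : s ∈ WittRGD.Tor Fr G0) (ht : t ∈ WittRGD.Tor Fr G0) (h0 : ∀ w ∈ Fr.V0, s (t w) = t (s w)) :
    s * t = t * s := by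
  have hcomm : ∀ (v : V) (l m : F), s v = l • v → t v = m • v → s (t v) = t (s v) := by
    intro v l m h1 h2
    rw [h2, h1, map_smul, map_smul, h1, h2, smul_smul, smul_smul, mul_comm]
  have h1 : (t * s)⁻¹ * (s * t) = 1 := by
    refine eq_one_of_fix hA (fun x => ?_) fun w hw => ?_
    · obtain ⟨l, -, hl⟩ := hs.2 x
      obtain ⟨m, -, hm⟩ := ht.2 x
      have h2 : (t * s) (Fr.b x) = (s * t) (Fr.b x) := (hcomm _ l m hl hm).symm
      show (t * s)⁻¹ ((s * t) (Fr.b x)) = Fr.b x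
      rw [← h2]
      exact LinearEquiv.symm_apply_apply (t * s) (Fr.b x)
    · have h2 : (t * s) w = (s * t) w := (h0 w hw).symm
      show (t * s)⁻¹ ((s * t) w) = w
      rw [← h2]
      exact LinearEquiv.symm_apply_apply (t * s) w
  exact (inv_mul_eq_one.1 h1).symm

theorem model_comm {p : ℕ} (hA : AmbT Fr p M.I)
    (h0 : ∀ s ∈ WittRGD.Tor Fr M.I, ∀ t ∈ WittRGD.Tor Fr M.I, ∀ w ∈ Fr.V0, s (t w) = t (s w)) :
    ∀ s ∈ WittModel.T M, ∀ t ∈ WittModel.T M, s * t = t * s := by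
  rintro _ ⟨s, hs, rfl⟩ _ ⟨t, ht, rfl⟩
  rw [← map_mul, ← map_mul]
  congr 1
  apply Subtype.ext
  exact tor_comm_of hA (Subgroup.mem_subgroupOf.1 hs) (Subgroup.mem_subgroupOf.1 ht)
    (h0 _ (Subgroup.mem_subgroupOf.1 hs) _ (Subgroup.mem_subgroupOf.1 ht))

/-- **Models over a Witt frame.** -/
theorem splitAb_model [Finite V] [IsSimpleGroup K] {p : ℕ} [hp : Fact p.Prime] [CharP F p] (hA : AmbT Fr p M.I)
    (hn : 0 < n) {p0 : Fr.Adm} (hp0 : p0.c ≠ 0) (ab : ∀ s ∈ WittModel.T M, ∀ t ∈ WittModel.T M, s * t = t * s) :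
    SplitAb p K := by
  have hfin : Finite (CoxeterMatrix.B n).Group := TypeC.finite_W (CoxeterMatrix.B n).toCoxeterSystem
  have : Nonempty (Fin n) := ⟨⟨0, hn⟩⟩
  exact splitAb_of_rgd hp.out (rgdC_model M hA hp0 (CoxeterMatrix.B n).toCoxeterSystem) (WittModel.G1_eq_top M hn _) ab

theorem splitEv_model [Finite V] [IsSimpleGroup K] {p : ℕ} [hp : Fact p.Prime] [CharP F p] (hA : AmbT Fr p M.I)
    (hn : 0 < n) {p0 : Fr.Adm} (hp0 : p0.c ≠ 0) (ab : ∀ s ∈ WittModel.T M, ∀ t ∈ WittModel.T M, s * t = t * s)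
    {t : K} (ht : t ∈ WittModel.T M) (ht2 : orderOf t = 2) : SplitEv p K := by
  have hfin : Finite (CoxeterMatrix.B n).Group := TypeC.finite_W (CoxeterMatrix.B n).toCoxeterSystem
  have : Nonempty (Fin n) := ⟨⟨0, hn⟩⟩
  exact splitEv_of_rgd hp.out (rgdC_model M hA hp0 (CoxeterMatrix.B n).toCoxeterSystem) (WittModel.G1_eq_top M hn _) ab
    ht ht2

end gen

theorem psu {p : ℕ} {G : Type*} [Group G] [IsSimpleGroup G] (hG : IsPSUChar p G) : SplitAb p G := by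
  obtain ⟨F, _, _, _, n, q, hF, hn, -, ⟨e⟩⟩ := hG
  have : Fact p.Prime := RGDClass.fact_prime (F := F)
  have hs : IsSimpleGroup (PSU n F q) := e.symm.isSimpleGroup
  obtain ⟨m, hm⟩ : ∃ m, n = 2 * m ∨ n = 2 * m + 1 := ⟨n / 2, by omega⟩
  obtain ⟨W, -⟩ := exists_wframe hF hm
  obtain ⟨p0, hp0, -⟩ := exists_adm hF W
  have hA : AmbT (toFrame W) p (KInstU.model hF hn W).I := AmbT.of_amb (amb_U hF W) p
  have hdim := finrank_V0 (Fr := toFrame W)
  rw [Module.finrank_fintype_fun_eq_card, Fintype.card_fin] at hdim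
  refine (splitAb_model (KInstU.model hF hn W) hA (by omega) hp0 (ab_model hA ?_)).congr e.symm
  have h1 : Module.finrank F ↥(toFrame W).V0 ≤ 1 := by omega
  obtain ⟨v, hv⟩ := finrank_le_one_iff.1 h1
  refine ⟨v.1, fun w hw => ?_⟩
  obtain ⟨c, hc⟩ := hv ⟨w, hw⟩
  exact ⟨c, (congrArg Subtype.val hc).symm⟩

open SpIdent SpGen in
theorem psp {p : ℕ} {G : Type*} [Group G] [IsSimpleGroup G] (hG : IsPSpChar p G) : SplitAb p G := by
  obtain ⟨F, _, _, _, m, hm, -, ⟨e⟩⟩ := hG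
  have : Fact p.Prime := RGDClass.fact_prime (F := F)
  have hs : IsSimpleGroup (PSp m F) := e.symm.isSimpleGroup
  have hA : AmbT (frame m F) p (KInstSp.model m F).I := AmbT.of_amb amb_Sp p
  refine (splitAb_model (KInstSp.model m F) hA (by omega) (p0 := SpIdent.adm 1) one_ne_zero
    (ab_model hA ⟨0, fun w hw => ⟨0, ?_⟩⟩)).congr e.symm
  rw [(Submodule.mem_bot F).1 hw, smul_zero]

end witt

end Cfsg.Agent.H463.LieAb
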