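import Cfsg.Agent.H463.LiePSL
import Cfsg.Agent.H463.LieReg

/-! Coprime pairs in all simple groups of Lie type. -/

set_option autoImplicit false

namespace Cfsg.Agent.H463.LieAll

open Cfsg Cfsg.Agent.H463.Pair

universe u

/-- **`Pair45` for the simple groups of Lie type.** -/
theorem pair {p : ℕ} {Y : Type u} [Group Y] [Finite Y] (hs : IsSimpleGroup Y) (hY : IsLieTypeChar p Y) : Pair45 Y := by
  by_cases hp2 : p = 2
  · subst hp2
    exact LieTwo.pair hs hY
  · exact LiePSL.pair_odd (LieReg.prime hY) hp2 hs hY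

end Cfsg.Agent.H463.LieAll
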