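import Cfsg.Agent.H463.LieOrth
import Cfsg.Agent.H463.LieExc

/-!
# Split (B,N)-pairs with commutative torus of even order: classical groups in odd characteristic
-/

set_option autoImplicit false
set_option linter.unusedSectionVars false

namespace Cfsg.Agent.H463.LieEv

open Cfsg Cfsg.Agent.H463.LieAb Cfsg.Agent.H463.LieOrth
open CoxeterSystem Cfsg.Agent.ChevalleyStructure.CoxeterGeom Cfsg.Agent.Tits.Roots
open Cfsg.Agent.Nodes.Comb Cfsg.Agent.Nodes.Reps Cfsg.Agent.Nodes.WittRoot Cfsg.Agent.Nodes.BNOf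
open Cfsg.Agent.Nodes Cfsg.Agent.Nodes.RGDLib Cfsg.Agent.Nodes.WittAll Cfsg.Agent.Nodes.WittU Cfsg.Agent.Nodes.RGDChev
  Cfsg.Agent.Nodes.WittInst
open Cfsg.Agent.TitsThree Cfsg.Agent.TitsThree.Siegel Cfsg.Agent.TitsThree.SiegelGen
  Cfsg.Agent.TitsThree.WittFrame Cfsg.Agent.TitsThree.WBridge Cfsg.Agent.TitsThree.WittWeyl
  Cfsg.Agent.TitsThree.FrameCN
open QuadraticMap
open Cfsg.Agent.LieClassical Cfsg.Agent.LieClassical.OrthCore Cfsg.Agent.LieClassical.OrthTrans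
open Cfsg.Agent.LieClassical.OrthSimple Cfsg.Agent.LieClassical.OrthFinite
open Cfsg.Agent.LieClassical.OrthForms
open Cfsg.Agent.TitsThree.KSideO Cfsg.Agent.TitsThree.StdData
open Cfsg.Agent.Omega.Lie.End.KWittFour

theorem orderOf_of {G : Type*} [Group G] {x : G} (h : x * x = 1) (h1 : x ≠ 1) : orderOf x = 2 := by
  have : Fact (Nat.Prime 2) := ⟨Nat.prime_two⟩
  exact orderOf_eq_prime (by rw [pow_two]; exact h) h1

section rgd

variable {I W Y : Type*} [Fintype I] [DecidableEq I] [Group W] [Group Y] {M : CoxeterMatrix I}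
  {cs : CoxeterSystem M W} {A : I → I → ℤ} {h : IsCartan M A} {p : ℕ} {T : Subgroup Y} {n : I → Y}
  {X : (I → ℤ) → Subgroup Y}

/-- `n_i²` is an involution. -/
theorem splitEv_of_sq [Finite W] [IsSimpleGroup Y] (hp : p.Prime) (R : RGD cs h p T n X)
    (hG : Nodes.RGDLib.G1 cs h X = ⊤) (ab : ∀ s ∈ T, ∀ t ∈ T, s * t = t * s) (i : I) (h1 : n i * n i ≠ 1)
    (h4 : n i * n i * (n i * n i) = 1) : SplitEv p Y := by
  have : Nonempty I := ⟨i⟩
  refine splitEv_of_rgd hp R hG ab (t := n i * n i) ?_ (orderOf_of h4 h1)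
  have h5 := R.nsys.rel i i
  rwa [M.diagonal, pow_one] at h5

end rgd

/-! ### Squares of the Weyl elements -/

section frame

variable {F : Type*} [Field F] {V : Type*} [AddCommGroup V] [Module F V] {H : HForm F V} {n : ℕ}
  {Fr : Frame H (Fin n)}

theorem nX_sq_self {x y : Fin n × Bool} (h : x.1 ≠ y.1) : nX Fr x y 1 (nX Fr x y 1 (Fr.b x)) = -Fr.b x := by
  rw [nX_apply_self Fr h one_ne_zero, inv_one, one_smul, map_neg, nX_apply_neg Fr h one_ne_zero, one_smul]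

theorem nX_mul_self {x y : Fin n × Bool} (h : x.1 ≠ y.1) : (nX Fr x y 1 * nX Fr x y 1) (Fr.b x) = -Fr.b x := by
  rw [mul_apply']; exact nX_sq_self h

theorem nX_mul_of_ne {x y z : Fin n × Bool} (h : x.1 ≠ y.1) (h1 : z.1 ≠ x.1) (h2 : z.1 ≠ y.1) :
    (nX Fr x y 1 * nX Fr x y 1) (Fr.b z) = Fr.b z := by
  rw [mul_apply', nX_apply_of_ne Fr h h1 h2, nX_apply_of_ne Fr h h1 h2]

theorem nX_sq_neg {x y : Fin n × Bool} (h : x.1 ≠ y.1) :
    nX Fr x y 1 (nX Fr x y 1 (Fr.b (neg y))) = -Fr.b (neg y) := by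
  rw [nX_apply_neg Fr h one_ne_zero, one_smul, nX_apply_self Fr h one_ne_zero, inv_one, one_smul]

theorem nX_sq_neg' {x y : Fin n × Bool} (h : x.1 ≠ y.1) :
    nX Fr x y 1 (nX Fr x y 1 (Fr.b (neg x))) = -Fr.b (neg x) := by
  have h1 := Fr.η_ne x
  have h2 := Fr.η_ne y
  have h3 := H.ε_ne
  have h4 : H.σ (1 : F) ≠ 0 := by simp
  rw [nX_apply_neg' Fr h one_ne_zero, map_neg, map_smul, nX_apply_self' Fr h one_ne_zero, smul_smul, mul_inv_cancel₀,
    one_smul]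
  exact mul_ne_zero (mul_ne_zero (mul_ne_zero (inv_ne_zero h3) h1) h2) h4

theorem nX_sq_self' {x y : Fin n × Bool} (h : x.1 ≠ y.1) :
    nX Fr x y 1 (nX Fr x y 1 (Fr.b y)) = -Fr.b y := by
  have h1 := Fr.η_ne x
  have h2 := Fr.η_ne y
  have h3 := H.ε_ne
  have h4 : H.σ (1 : F) ≠ 0 := by simp
  rw [nX_apply_self' Fr h one_ne_zero, map_smul, nX_apply_neg' Fr h one_ne_zero, smul_neg, smul_smul, inv_mul_cancel₀,
    one_smul]
  exact mul_ne_zero (mul_ne_zero (mul_ne_zero (inv_ne_zero h3) h1) h2) h4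

theorem eq_or_neg (z x : Fin n × Bool) (h : z.1 = x.1) : z = x ∨ z = neg x := by
  obtain ⟨a, s⟩ := z
  obtain ⟨b, t⟩ := x
  simp only at h
  subst h
  cases s <;> cases t <;> simp [neg]

theorem nX_sq {x y : Fin n × Bool} (h : x.1 ≠ y.1) (z : Fin n × Bool) :
    nX Fr x y 1 (nX Fr x y 1 (Fr.b z)) = Fr.b z ∨ nX Fr x y 1 (nX Fr x y 1 (Fr.b z)) = -Fr.b z := by
  by_cases h1 : z.1 = x.1
  · right
    rcases eq_or_neg z x h1 with rfl | rfl
    · exact nX_sq_self h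
    · exact nX_sq_neg' h
  · by_cases h2 : z.1 = y.1
    · right
      rcases eq_or_neg z y h2 with rfl | rfl
      · exact nX_sq_self' h
      · exact nX_sq_neg h
    · left
      rw [nX_apply_of_ne Fr h h1 h2, nX_apply_of_ne Fr h h1 h2]

theorem nX_four {G0 : Subgroup (V ≃ₗ[F] V)} {p : ℕ} (hA : AmbT Fr p G0) {x y : Fin n × Bool} (h : x.1 ≠ y.1) :
    nX Fr x y 1 * nX Fr x y 1 * (nX Fr x y 1 * nX Fr x y 1) = 1 := by
  refine eq_one_of_fix hA (fun z => ?_) fun w hw => ?_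
  · show nX Fr x y 1 (nX Fr x y 1 (nX Fr x y 1 (nX Fr x y 1 (Fr.b z)))) = Fr.b z
    rcases nX_sq (Fr := Fr) h z with h1 | h1
    · rw [h1, h1]
    · rw [h1, map_neg, map_neg, h1, _root_.neg_neg]
  · show nX Fr x y 1 (nX Fr x y 1 (nX Fr x y 1 (nX Fr x y 1 w))) = w
    rw [nX_apply_V0 Fr h hw, nX_apply_V0 Fr h hw, nX_apply_V0 Fr h hw, nX_apply_V0 Fr h hw]

theorem nZ_sq_self (x : Fin n × Bool) {p : Fr.Adm} (hc : p.c ≠ 0) (hw : p.w = 0) :
    nZ Fr x p (nZ Fr x p (Fr.b x)) = -Fr.b x := by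
  have h3 := Fr.η_ne x
  have hσ : H.σ p.c ≠ 0 := by simpa using hc
  have hh : H.h p.w p.w = -(H.ε * p.c + H.σ p.c) := by rw [p.herm, _root_.neg_neg]
  rw [hw, H.zero_left] at hh
  rw [nZ_apply_self Fr x p hc, map_smul, nZ_apply_neg Fr x p hc, smul_smul]
  have h1 : H.ε * (Fr.η x)⁻¹ * (H.σ p.c)⁻¹ * (Fr.η x * p.c) = -1 := by
    field_simp
    linear_combination hh
  rw [h1, neg_one_smul]

theorem nZ_sq_neg (x : Fin n × Bool) {p : Fr.Adm} (hc : p.c ≠ 0) (hw : p.w = 0) :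
    nZ Fr x p (nZ Fr x p (Fr.b (neg x))) = -Fr.b (neg x) := by
  have h3 := Fr.η_ne x
  have hσ : H.σ p.c ≠ 0 := by simpa using hc
  have hh : H.h p.w p.w = -(H.ε * p.c + H.σ p.c) := by rw [p.herm, _root_.neg_neg]
  rw [hw, H.zero_left] at hh
  rw [nZ_apply_neg Fr x p hc, map_smul, nZ_apply_self Fr x p hc, smul_smul]
  have h1 : Fr.η x * p.c * (H.ε * (Fr.η x)⁻¹ * (H.σ p.c)⁻¹) = -1 := by
    field_simp
    linear_combination hh
  rw [h1, neg_one_smul]

theorem nZ_V0 (x : Fin n × Bool) {p : Fr.Adm} (hc : p.c ≠ 0) (hw : p.w = 0) {v : V} (hv : v ∈ Fr.V0) :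
    nZ Fr x p v = v := by
  rw [nZ_apply_V0 Fr x p hc hv, hw, smul_zero, add_zero]

theorem nZ_four {G0 : Subgroup (V ≃ₗ[F] V)} {p : ℕ} (hA : AmbT Fr p G0) (x : Fin n × Bool) {p0 : Fr.Adm}
    (hc : p0.c ≠ 0) (hw0 : p0.w = 0) :
    nZ Fr x p0 * nZ Fr x p0 * (nZ Fr x p0 * nZ Fr x p0) = 1 := by
  refine eq_one_of_fix hA (fun z => ?_) fun w hw => ?_
  · show nZ Fr x p0 (nZ Fr x p0 (nZ Fr x p0 (nZ Fr x p0 (Fr.b z)))) = Fr.b z
    by_cases h1 : z.1 = x.1
    · rcases eq_or_neg z x h1 with rfl | rfl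
      · rw [nZ_sq_self _ hc hw0, map_neg, map_neg, nZ_sq_self _ hc hw0, _root_.neg_neg]
      · rw [nZ_sq_neg _ hc hw0, map_neg, map_neg, nZ_sq_neg _ hc hw0, _root_.neg_neg]
    · rw [nZ_apply_of_ne Fr h1, nZ_apply_of_ne Fr h1, nZ_apply_of_ne Fr h1, nZ_apply_of_ne Fr h1]
  · show nZ Fr x p0 (nZ Fr x p0 (nZ Fr x p0 (nZ Fr x p0 w))) = w
    rw [nZ_V0 x hc hw0 hw, nZ_V0 x hc hw0 hw, nZ_V0 x hc hw0 hw, nZ_V0 x hc hw0 hw]

/-- an element with eigenvalues `1` and `-1` is not scalar -/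
theorem not_line (h2 : (2 : F) ≠ 0) {g : V ≃ₗ[F] V} {v w : V} (hv : g v = -v) (hw : g w = w) (hv0 : v ≠ 0)
    (hw0 : w ≠ 0) : ¬ ∃ a : F, g (v + w) = a • (v + w) := by
  rintro ⟨a, ha⟩
  rw [map_add, hv, hw] at ha
  have h3 : (1 - a) • w = (1 + a) • v := by
    rw [sub_smul, add_smul, one_smul, one_smul]
    rw [smul_add] at ha
    have h4 : w = a • v + a • w + v := by rw [← ha]; abel
    nth_rw 1 [h4]
    abel
  have h4 := congrArg g h3
  rw [map_smul, map_smul, hw, hv, smul_neg, ← h3] at h4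
  have h5 : (2 : F) • ((1 - a) • w) = 0 := by
    rw [two_smul]
    nth_rw 1 [h4]
    abel
  have h6 : (1 - a) • w = 0 := (smul_eq_zero.1 h5).resolve_left h2
  have h7 : 1 - a = 0 := (smul_eq_zero.1 h6).resolve_right hw0
  rw [h6] at h3
  have h8 : 1 + a = 0 := (smul_eq_zero.1 h3.symm).resolve_right hv0
  apply h2
  linear_combination h7 + h8

variable {K : Type*} [Group K] (M : Model Fr K)

/-- **Models over a Witt frame**: a Weyl element whose square is not scalar. -/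
theorem splitEv_model' [Finite V] [IsSimpleGroup K] {p : ℕ} [hp : Fact p.Prime] [CharP F p] (h2 : (2 : F) ≠ 0)
    (hA : AmbT Fr p M.I) {p0 : Fr.Adm} (hp0 : p0.c ≠ 0)
    (ab : ∀ s ∈ WittModel.T M, ∀ t ∈ WittModel.T M, s * t = t * s) (i : Fin n)
    (h4 : WittRGD.nn Fr p0 i * WittRGD.nn Fr p0 i * (WittRGD.nn Fr p0 i * WittRGD.nn Fr p0 i) = 1) {v w : V}
    (hv : WittRGD.nn Fr p0 i (WittRGD.nn Fr p0 i v) = -v) (hw : WittRGD.nn Fr p0 i (WittRGD.nn Fr p0 i w) = w)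
    (hv0 : v ≠ 0) (hw0 : w ≠ 0) : SplitEv p K := by
  have hfin : Finite (CoxeterMatrix.B n).Group := TypeC.finite_W (CoxeterMatrix.B n).toCoxeterSystem
  refine splitEv_of_sq hp.out (rgdC_model M hA hp0 (CoxeterMatrix.B n).toCoxeterSystem)
    (WittModel.G1_eq_top M (by have := i.2; omega) _) ab i ?_ ?_
  · rw [← map_mul]
    intro h1
    exact not_line h2 (g := WittRGD.nn Fr p0 i * WittRGD.nn Fr p0 i) hv hw hv0 hw0 (M.ker (v + w) _ h1)
  · rw [← map_mul, ← map_mul, ← map_one M.φ]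
    congr 1
    exact Subtype.ext h4

/-- the last node of a Witt frame with at least two planes -/
theorem splitEv_Z [Finite V] [IsSimpleGroup K] {p : ℕ} [hp : Fact p.Prime] [CharP F p] (h2 : (2 : F) ≠ 0)
    (hA : AmbT Fr p M.I) {p0 : Fr.Adm} (hp0 : p0.c ≠ 0) (hw0 : p0.w = 0) (hn : 0 < n)
    (ab : ∀ s ∈ WittModel.T M, ∀ t ∈ WittModel.T M, s * t = t * s) (hne : 2 ≤ n ∨ ∃ w ∈ Fr.V0, w ≠ 0) :
    SplitEv p K := by
  have e : WittRGD.nn Fr p0 ⟨n - 1, by omega⟩ = nZ Fr (⟨n - 1, by omega⟩, true) p0 := by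
    unfold WittRGD.nn
    rw [if_neg]
    show ¬ (n - 1 + 1 < n)
    omega
  rcases hne with hn2 | ⟨w, hw, hwne⟩
  · refine splitEv_model' M h2 hA hp0 ab ⟨n - 1, by omega⟩ (v := Fr.b (⟨n - 1, by omega⟩, true))
      (w := Fr.b (⟨0, by omega⟩, true)) ?_ ?_ ?_ (WittRGD.b_ne_zero _) (WittRGD.b_ne_zero _)
    · rw [e]; exact nZ_four hA _ hp0 hw0
    · rw [e]; exact nZ_sq_self _ hp0 hw0
    · have h1 : ((⟨0, by omega⟩, true) : Fin n × Bool).1 ≠ ((⟨n - 1, by omega⟩, true) : Fin n × Bool).1 := by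
        simp only [ne_eq, Fin.mk.injEq]; omega
      rw [e, nZ_apply_of_ne Fr h1, nZ_apply_of_ne Fr h1]
  · refine splitEv_model' M h2 hA hp0 ab ⟨n - 1, by omega⟩ (v := Fr.b (⟨n - 1, by omega⟩, true))
      (w := w) ?_ ?_ ?_ (WittRGD.b_ne_zero _) hwne
    · rw [e]; exact nZ_four hA _ hp0 hw0
    · rw [e]; exact nZ_sq_self _ hp0 hw0
    · rw [e, nZ_V0 _ hp0 hw0 hw, nZ_V0 _ hp0 hw0 hw]

/-- the first node of a Witt frame with at least three planes -/
theorem splitEv_X [Finite V] [IsSimpleGroup K] {p : ℕ} [hp : Fact p.Prime] [CharP F p] (h2 : (2 : F) ≠ 0)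
    (hA : AmbT Fr p M.I) {p0 : Fr.Adm} (hp0 : p0.c ≠ 0) (hn : 3 ≤ n)
    (ab : ∀ s ∈ WittModel.T M, ∀ t ∈ WittModel.T M, s * t = t * s) : SplitEv p K := by
  have e : WittRGD.nn Fr p0 ⟨0, by omega⟩ = nX Fr (⟨0, by omega⟩, true) (⟨1, by omega⟩, false) 1 := by
    unfold WittRGD.nn TypeC.nx
    rw [if_pos (show 0 + 1 < n by omega), dif_pos (show 0 + 1 < n by omega)]
  have h01 : ((⟨0, by omega⟩, true) : Fin n × Bool).1 ≠ ((⟨1, by omega⟩, false) : Fin n × Bool).1 := by simp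
  refine splitEv_model' M h2 hA hp0 ab ⟨0, by omega⟩ (v := Fr.b (⟨0, by omega⟩, true))
      (w := Fr.b (⟨2, by omega⟩, true)) ?_ ?_ ?_ (WittRGD.b_ne_zero _) (WittRGD.b_ne_zero _)
  · rw [e]; exact nX_four hA h01
  · rw [e]; exact nX_sq_self h01
  · have h1 : ((⟨2, by omega⟩, true) : Fin n × Bool).1 ≠ ((⟨0, by omega⟩, true) : Fin n × Bool).1 := by simp
    have h3 : ((⟨2, by omega⟩, true) : Fin n × Bool).1 ≠ ((⟨1, by omega⟩, false) : Fin n × Bool).1 := by simp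
    rw [e, nX_apply_of_ne Fr h01 h1 h3, nX_apply_of_ne Fr h01 h1 h3]

end frame

/-! ### The families -/

open SpIdent SpGen in
theorem psp {p : ℕ} (hp2 : p ≠ 2) {G : Type*} [Group G] [IsSimpleGroup G] (hG : IsPSpChar p G) : SplitEv p G := by
  obtain ⟨F, _, _, _, m, hm, -, ⟨e⟩⟩ := hG
  have : Fact p.Prime := RGDClass.fact_prime (F := F)
  have hs : IsSimpleGroup (PSp m F) := e.symm.isSimpleGroup
  have hA : AmbT (frame m F) p (KInstSp.model m F).I := AmbT.of_amb amb_Sp p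
  refine (splitEv_Z (KInstSp.model m F) (two_ne hp2) hA (p0 := SpIdent.adm 1) one_ne_zero rfl (by omega)
    (ab_model hA ⟨0, fun w hw => ⟨0, ?_⟩⟩) (Or.inl hm)).congr e.symm
  rw [(Submodule.mem_bot F).1 hw, smul_zero]

theorem psu {p : ℕ} (hp2 : p ≠ 2) {G : Type*} [Group G] [IsSimpleGroup G] (hG : IsPSUChar p G) : SplitEv p G := by
  obtain ⟨F, _, _, _, n, q, hF, hn, -, ⟨e⟩⟩ := hG
  have : Fact p.Prime := RGDClass.fact_prime (F := F)
  have hs : IsSimpleGroup (PSU n F q) := e.symm.isSimpleGroup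
  obtain ⟨m, hm⟩ : ∃ m, n = 2 * m ∨ n = 2 * m + 1 := ⟨n / 2, by omega⟩
  obtain ⟨W, -⟩ := exists_wframe hF hm
  obtain ⟨p0, hp0, hw0⟩ := exists_adm hF W
  have hA : AmbT (toFrame W) p (KInstU.model hF hn W).I := AmbT.of_amb (amb_U hF W) p
  have hdim := Cfsg.Agent.Omega.Lie.End.RowWitt.finrank_V0 (Fr := toFrame W)
  rw [Module.finrank_fintype_fun_eq_card, Fintype.card_fin] at hdim
  refine (splitEv_Z (KInstU.model hF hn W) (two_ne hp2) hA hp0 hw0 (by omega) (ab_model hA ?_) ?_).congr e.symm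
  · have h1 : Module.finrank F ↥(toFrame W).V0 ≤ 1 := by omega
    obtain ⟨v, hv⟩ := finrank_le_one_iff.1 h1
    refine ⟨v.1, fun w hw => ?_⟩
    obtain ⟨c, hc⟩ := hv ⟨w, hw⟩
    exact ⟨c, (congrArg Subtype.val hc).symm⟩
  · rcases hm with hm | hm
    · left; omega
    · right
      by_contra hcon
      push Not at hcon
      let L : ((Fin m → F) × (Fin m → F)) →ₗ[F] (Fin n → F) :=
        { toFun := fun c => ∑ i, c.1 i • W.e i + ∑ i, c.2 i • W.f i
          map_add' := fun c d => by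
            simp only [Prod.fst_add, Prod.snd_add, Pi.add_apply, add_smul, Finset.sum_add_distrib]
            abel
          map_smul' := fun c d => by
            simp only [Prod.smul_fst, Prod.smul_snd, Pi.smul_apply, smul_eq_mul, mul_smul, RingHom.id_apply,
              smul_add, Finset.smul_sum] }
      have hsurj : Function.Surjective L := by
        intro v
        obtain ⟨a, b, w, hw, e⟩ := W.span v
        refine ⟨(a, b), ?_⟩
        rw [e, hcon w hw, add_zero]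
        rfl
      have h2 := LinearMap.finrank_le_finrank_of_surjective hsurj
      rw [Module.finrank_prod, Module.finrank_fintype_fun_eq_card, Module.finrank_fintype_fun_eq_card,
        Fintype.card_fin, Fintype.card_fin] at h2
      omega

theorem poOdd {p : ℕ} {G : Type*} [Group G] [IsSimpleGroup G] (hG' : IsPOmegaOddChar p G) : SplitEv p G := by
  obtain ⟨F, _, _, _, m, hm, hodd, ⟨e⟩⟩ := hG'
  have : Fact p.Prime := RGDClass.fact_prime (F := F)
  have h2 : (2 : F) ≠ 0 := two_ne_of_odd hodd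
  have hs : IsSimpleGroup (Cfsg.POmega F (Cfsg.quadFormOdd m F)) := e.symm.isSimpleGroup
  refine SplitEv.congr e.symm ?_
  rw [← coe_oddForm] at hs ⊢
  have hG : Good (oddForm m F) := by
    apply good_of_finite (nondeg_oddForm m F h2)
    rw [Module.finrank_fintype_fun_eq_card, Fintype.card_sum, Fintype.card_sum, Fintype.card_fin,
      Fintype.card_unit]
    omega
  have hp : ((embOdd m F).ngt ⟨1, -1 ^ 2, rfl⟩).c ≠ 0 := by
    change (1 : F)⁻¹ * (-1 ^ 2) ≠ 0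
    simp
  have hA : AmbT (toFrame (wodd m F)) p (E (oddForm m F)) := AmbT.of_amb (amb_O_of_two _ h2) p
  refine splitEv_X (model (wodd m F) hG ⟨_, hp⟩) h2 hA hp hm (ab_model hA
    ⟨Pi.single (Sum.inl ()) 1, fun w hw => ⟨w (Sum.inl ()), ?_⟩⟩)
  have hw' : ∀ j, w (Sum.inr j) = 0 := hw
  funext j
  rcases j with j | j
  · simp
  · simp [hw']

section Dtype

variable {ι : Type} [Fintype ι] [DecidableEq ι] {F : Type*} [Field F] {Q : QuadraticForm F (ι → F)} {k : ℕ}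

theorem nn_zero_D (W : WFrame (PO Q) (k + 2)) : WittRGDD.nn (toFrame W) (⟨0, by omega⟩ : Fin (k + 2)) =
    nX (toFrame W) (⟨0, by omega⟩, true) (⟨1, by omega⟩, false) 1 := by
  unfold WittRGDD.nn TypeD.nx
  rw [dif_pos (show 0 + 1 < k + 2 by omega)]

theorem splitEv_D [Finite F] {p : ℕ} [hp : Fact p.Prime] [CharP F p] (W : WFrame (PO Q) (k + 2)) (hk : 1 ≤ k)
    (hG : Good Q) (hA : Amb (toFrame W) (E Q)) (h0 : ∀ p : (toFrame W).Adm, p = 1) (h2 : (2 : F) ≠ 0)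
    [IsSimpleGroup (Cfsg.POmega F ⇑Q)] : SplitEv p (Cfsg.POmega F ⇑Q) := by
  have : Finite (TypeD.M k).Group := TypeD.finite_W (TypeD.M k).toCoxeterSystem
  have h01 : ((⟨0, by omega⟩, true) : Fin (k + 2) × Bool).1 ≠ ((⟨1, by omega⟩, false) : Fin (k + 2) × Bool).1 := by
    simp
  have hV0 : ∀ w ∈ (toFrame W).V0, w = 0 := by
    intro w hw
    have hw' : w ∈ W.V0 := hw
    have h1 : (⟨w, -Q w, ⟨hw', rfl⟩⟩ : (toFrame W).Adm) = 1 := h0 _
    exact congrArg Frame.Adm.w h1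
  refine splitEv_of_sq hp.out (rgdD_model W hG hA h0 (TypeD.M k).toCoxeterSystem)
    (G1D_eq_top W (toPOmega hG) (toPOmega_surjective hG) h0 _) ?_ (⟨0, by omega⟩ : Fin (k + 2)) ?_ ?_
  · rintro _ ⟨s, hs, rfl⟩ _ ⟨t, ht, rfl⟩
    rw [← map_mul, ← map_mul]
    congr 1
    apply Subtype.ext
    refine tor_comm_of (AmbT.of_amb hA p) (Subgroup.mem_subgroupOf.1 hs)
      (Subgroup.mem_subgroupOf.1 ht) fun w hw => ?_
    rw [hV0 w hw]
    simp
  · rw [← map_mul]
    intro h1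
    obtain ⟨c, hc⟩ := scalar_of_center hG (center_of_toPOmega hG h1)
    refine not_line h2 (g := WittRGDD.nn (toFrame W) (⟨0, by omega⟩ : Fin (k + 2)) *
      WittRGDD.nn (toFrame W) (⟨0, by omega⟩ : Fin (k + 2))) (v := (toFrame W).b (⟨0, by omega⟩, true))
      (w := (toFrame W).b (⟨2, by omega⟩, true)) ?_ ?_ (WittRGD.b_ne_zero _) (WittRGD.b_ne_zero _) ⟨c, hc _⟩
    · rw [nn_zero_D]
      exact nX_mul_self (Fr := toFrame W) h01
    · have h1 : ((⟨2, by omega⟩, true) : Fin (k + 2) × Bool).1 ≠ ((⟨0, by omega⟩, true) : Fin (k + 2) × Bool).1 := by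
        simp
      have h3 : ((⟨2, by omega⟩, true) : Fin (k + 2) × Bool).1 ≠ ((⟨1, by omega⟩, false) : Fin (k + 2) × Bool).1 := by
        simp
      rw [nn_zero_D]
      exact nX_mul_of_ne (Fr := toFrame W) h01 h1 h3
  · rw [← map_mul, ← map_mul, ← map_one (toPOmega hG)]
    congr 1
    apply Subtype.ext
    show WittRGDD.nn (toFrame W) (⟨0, by omega⟩ : Fin (k + 2)) * WittRGDD.nn (toFrame W) (⟨0, by omega⟩ : Fin (k + 2)) *
      (WittRGDD.nn (toFrame W) (⟨0, by omega⟩ : Fin (k + 2)) * WittRGDD.nn (toFrame W) (⟨0, by omega⟩ : Fin (k + 2))) = 1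
    rw [nn_zero_D]
    exact nX_four (AmbT.of_amb hA p) h01

end Dtype

theorem poPlus {p : ℕ} (hp2 : p ≠ 2) {G : Type*} [Group G] [IsSimpleGroup G] (hG' : IsPOmegaPlusChar p G) :
    SplitEv p G := by
  obtain ⟨F, _, _, _, m, hm, ⟨e⟩⟩ := hG'
  have : Fact p.Prime := RGDClass.fact_prime (F := F)
  obtain ⟨n, rfl⟩ : ∃ n, m = n + 3 := ⟨m - 3, by omega⟩
  have hs : IsSimpleGroup (Cfsg.POmega F (Cfsg.quadFormPlus (n + 3) F)) := e.symm.isSimpleGroup
  refine SplitEv.congr e.symm ?_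
  rw [← coe_plusForm] at hs ⊢
  have hG : Good (plusForm (n + 3) F) := by
    apply good_of_finite (nondeg_plusForm (n + 3) F)
    rw [Module.finrank_fintype_fun_eq_card, Fintype.card_sum, Fintype.card_fin]
    omega
  exact splitEv_D (k := n + 1) (wplus (n + 3) F) (by omega) hG (amb_plus _) (adm_plus _) (two_ne hp2)

section Minus

variable {F : Type*} [Field F] {m : ℕ} (a b : F)
  (hab : ∀ z₁ z₂ : F, z₁ ^ 2 + a * z₁ * z₂ + b * z₂ ^ 2 = 0 → z₁ = 0 ∧ z₂ = 0)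

include hab in
theorem splitEv_minus {p : ℕ} (hp2 : p ≠ 2) [Finite F] [hpp : Fact p.Prime] [CharP F p] (hm : 3 ≤ m)
    (hs : IsSimpleGroup (Cfsg.POmega F (Cfsg.quadFormMinus m F a b))) :
    SplitEv p (Cfsg.POmega F (Cfsg.quadFormMinus m F a b)) := by
  have h2 : (2 : F) ≠ 0 := two_ne hp2
  rw [← coe_minusForm] at hs ⊢
  have hG := minus_good a b (by omega : 2 ≤ m) hab
  have hp := minus_adm (m := m) a b hab
  have hA : AmbT (toFrame (wminus m F a b hab)) p (E (minusForm m F a b)) := AmbT.of_amb (amb_O_of_two _ h2) p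
  exact splitEv_X (model (wminus m F a b hab) hG ⟨_, hp⟩) h2 hA hp hm
    (model_comm _ hA (minus_comm a b hab h2 hG hA))

theorem poMinus {p : ℕ} (hp2 : p ≠ 2) {G : Type*} [Group G] [IsSimpleGroup G] (hG' : IsPOmegaMinusChar p G) :
    SplitEv p G := by
  obtain ⟨F, _, _, _, m, a, b, hm, hab, ⟨e⟩⟩ := hG'
  have : Fact p.Prime := RGDClass.fact_prime (F := F)
  have hs : IsSimpleGroup (Cfsg.POmega F (Cfsg.quadFormMinus (m - 1) F a b)) := e.symm.isSimpleGroup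
  exact (splitEv_minus a b hab hp2 (by omega) hs).congr e.symm

end Minus

/-! ### Linear groups -/

section psl

open Matrix Cfsg.Agent.Nodes.RGDTypeA

/-- a diagonal element of determinant 1 -/
def dg {ι F : Type*} [Field F] [DecidableEq ι] [Fintype ι] (D : ι → F) (hD : ∏ i, D i = 1) :
    SpecialLinearGroup ι F := ⟨diagonal D, by rw [det_diagonal, hD]⟩

theorem dg_mem {ι F : Type*} [Field F] [DecidableEq ι] [Fintype ι] {D : ι → F} (hD : ∏ i, D i = 1) :
    dg D hD ∈ T ι F := by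
  rw [mem_T]
  intro c d h
  by_contra hcd
  exact h (diagonal_apply_ne _ hcd)

theorem dg_center {n : ℕ} {F : Type*} [Field F] {D : Fin (n + 1) → F} (hD : ∏ i, D i = 1)
    (h : pr n F (dg D hD) = 1) (i j : Fin (n + 1)) : D i = D j := by
  have h1 : dg D hD ∈ (pr n F).ker := h
  rw [ker_pr, Matrix.SpecialLinearGroup.mem_center_iff] at h1
  obtain ⟨r, -, hr⟩ := h1
  have h2 : ∀ k, D k = r := by
    intro k
    have h3 := congrFun (congrFun hr k) k
    rw [scalar_apply, diagonal_apply_eq] at h3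
    have h4 : ((dg D hD : SpecialLinearGroup (Fin (n + 1)) F) : Matrix (Fin (n + 1)) (Fin (n + 1)) F) k k = D k :=
      diagonal_apply_eq _ _
    rw [h4] at h3
    exact h3.symm
  rw [h2, h2]

theorem splitEv_psl {n : ℕ} {F : Type*} [Field F] [Finite F] {p : ℕ} [hp : Fact p.Prime] [CharP F p]
    (hn : 0 < n) (hs : IsSimpleGroup (Matrix.ProjectiveSpecialLinearGroup (Fin (n + 1)) F)) {D : Fin (n + 1) → F}
    (hD : ∏ i, D i = 1) {i j : Fin (n + 1)} (hij : D i ≠ D j)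
    (h2 : pr n F (dg D hD) * pr n F (dg D hD) = 1) :
    SplitEv p (Matrix.ProjectiveSpecialLinearGroup (Fin (n + 1)) F) := by
  have : Finite (Cfsg.Agent.LieRecognition.BNCox.cA n).Group :=
    Nodes.RootsA.finite_W (Cfsg.Agent.LieRecognition.BNCox.cA n).toCoxeterSystem (Nodes.RootsA.isCartan n)
  have : Nonempty (Fin n) := ⟨⟨0, hn⟩⟩
  exact splitEv_of_rgd hp.out (rgd_psl (Cfsg.Agent.LieRecognition.BNCox.cA n).toCoxeterSystem
    (Nodes.RootsA.isCartan n)) (G1_psl_eq_top _ _) psl_comm (Subgroup.mem_map_of_mem _ (dg_mem hD))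
    (orderOf_of h2 fun h => hij (dg_center hD h i j))

theorem splitEv_psl_three {n : ℕ} {F : Type*} [Field F] [Finite F] {p : ℕ} [hp : Fact p.Prime] [CharP F p]
    (h2 : (2 : F) ≠ 0) (hs : IsSimpleGroup (Matrix.ProjectiveSpecialLinearGroup (Fin (n + 3)) F)) :
    SplitEv p (Matrix.ProjectiveSpecialLinearGroup (Fin (n + 3)) F) := by
  let D : Fin (n + 3) → F := Fin.cons (-1) (Fin.cons (-1) fun _ => 1)
  have hD : ∏ i, D i = 1 := by
    rw [Fin.prod_univ_succ]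
    simp only [D, Fin.cons_zero, Fin.cons_succ]
    rw [Fin.prod_univ_succ]
    simp
  have h0 : D 0 = -1 := rfl
  have h1 : D (Fin.succ (Fin.succ 0)) = 1 := rfl
  refine splitEv_psl (n := n + 2) (by omega) hs (D := D) hD (i := 0) (j := Fin.succ (Fin.succ 0)) ?_ ?_
  · rw [h0, h1]
    intro h
    apply h2
    linear_combination -h
  · rw [← map_mul, ← map_one (pr (n + 2) F)]
    congr 1
    apply Subtype.ext
    show diagonal D * diagonal D = 1
    rw [diagonal_mul_diagonal, ← diagonal_one]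
    congr 1
    funext i
    refine Fin.cases ?_ (fun i => Fin.cases ?_ (fun i => ?_) i) i
    · simp [D]
    · simp [D]
    · simp [D]

theorem splitEv_psl_two {F : Type*} [Field F] [Finite F] {p : ℕ} [hp : Fact p.Prime] [CharP F p]
    (h2 : (2 : F) ≠ 0) (hs : IsSimpleGroup (Matrix.ProjectiveSpecialLinearGroup (Fin 2) F)) {ζ : F}
    (hζ : ζ * ζ = -1) : SplitEv p (Matrix.ProjectiveSpecialLinearGroup (Fin 2) F) := by
  have hζ0 : ζ ≠ 0 := by
    rintro rfl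
    rw [mul_zero] at hζ
    exact one_ne_zero (neg_eq_zero.1 hζ.symm)
  have hD : ∏ i, (![ζ, -ζ] : Fin 2 → F) i = 1 := by
    rw [Fin.prod_univ_two]
    show ζ * -ζ = 1
    linear_combination -hζ
  refine splitEv_psl (n := 1) (by omega) hs hD (i := 0) (j := 1) ?_ ?_
  · show ζ ≠ -ζ
    intro h
    have h3 : 2 * ζ = 0 := by linear_combination h
    exact (mul_eq_zero.1 h3).elim h2 hζ0
  · rw [← map_mul]
    show _ ∈ (pr 1 F).ker
    rw [ker_pr, Matrix.SpecialLinearGroup.mem_center_iff]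
    refine ⟨-1, by simp, ?_⟩
    show _ = diagonal _ * diagonal _
    rw [diagonal_mul_diagonal]
    ext i j
    fin_cases i <;> fin_cases j
    · simp [hζ]
    · simp
    · simp
    · simp [hζ]

end psl

end Cfsg.Agent.H463.LieEv
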