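import Cfsg.Agent.H463.LieAb

/-!
# The torus of the orthogonal groups is commutative

* `poOdd`, `poPlus`, `poMinus` : `SplitAb p G`.
-/

set_option autoImplicit false

namespace Cfsg.Agent.H463.LieOrth

open Cfsg Cfsg.Agent.H463.LieAb
open Cfsg.Agent.ChevalleyStructure.CoxeterGeom Cfsg.Agent.Tits.Roots
open Cfsg.Agent.Nodes.Comb Cfsg.Agent.Nodes.Reps Cfsg.Agent.Nodes.WittRoot Cfsg.Agent.Nodes.BNOf
open Cfsg.Agent.Nodes Cfsg.Agent.Nodes.RGDLib Cfsg.Agent.Nodes.WittAll Cfsg.Agent.Nodes.WittU Cfsg.Agent.Nodes.RGDChev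
  Cfsg.Agent.Nodes.WittInst
open Cfsg.Agent.TitsThree Cfsg.Agent.TitsThree.Siegel Cfsg.Agent.TitsThree.SiegelGen
  Cfsg.Agent.TitsThree.WittFrame Cfsg.Agent.TitsThree.WBridge Cfsg.Agent.TitsThree.WittWeyl
  Cfsg.Agent.TitsThree.FrameCN
open QuadraticMap
open Cfsg.Agent.LieClassical Cfsg.Agent.LieClassical.OrthCore Cfsg.Agent.LieClassical.OrthTrans
open Cfsg.Agent.LieClassical.OrthSimple Cfsg.Agent.LieClassical.OrthFinite
open Cfsg.Agent.LieClassical.OrthForms
open Cfsg.Agent.TitsThree.KSideO Cfsg.Agent.TitsThree.StdData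
open Cfsg.Agent.Omega.Lie.End.KWittFour

theorem two_ne_of_odd {F : Type*} [Field F] [Fintype F] (hodd : Odd (Fintype.card F)) : (2 : F) ≠ 0 := by
  intro h2
  have h3 : CharP F 2 := CharTwo.of_one_ne_zero_of_two_eq_zero one_ne_zero h2
  obtain ⟨k, -, hk⟩ := FiniteField.card F 2
  rw [hk] at hodd
  exact absurd hodd (by
    rw [Nat.not_odd_iff_even]
    exact (even_two).pow_of_ne_zero k.ne_zero)

theorem two_ne {F : Type*} [Field F] {p : ℕ} [CharP F p] (hp : p ≠ 2) : (2 : F) ≠ 0 := by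
  intro h2
  have h3 : CharP F 2 := CharTwo.of_one_ne_zero_of_two_eq_zero one_ne_zero h2
  exact hp (CharP.eq F ‹CharP F p› h3)

theorem poOdd {p : ℕ} {G : Type*} [Group G] [IsSimpleGroup G] (hG' : IsPOmegaOddChar p G) : SplitAb p G := by
  obtain ⟨F, _, _, _, m, hm, hodd, ⟨e⟩⟩ := hG'
  have : Fact p.Prime := RGDClass.fact_prime (F := F)
  have h2 : (2 : F) ≠ 0 := two_ne_of_odd hodd
  have hs : IsSimpleGroup (Cfsg.POmega F (Cfsg.quadFormOdd m F)) := e.symm.isSimpleGroup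
  refine SplitAb.congr e.symm ?_
  rw [← coe_oddForm] at hs ⊢
  have hG : Good (oddForm m F) := by
    apply good_of_finite (nondeg_oddForm m F h2)
    rw [Module.finrank_fintype_fun_eq_card, Fintype.card_sum, Fintype.card_sum, Fintype.card_fin,
      Fintype.card_unit]
    omega
  have hp : ((embOdd m F).ngt ⟨1, -1 ^ 2, rfl⟩).c ≠ 0 := by
    change (1 : F)⁻¹ * (-1 ^ 2) ≠ 0
    simp
  have hA : AmbT (toFrame (wodd m F)) p (E (oddForm m F)) := AmbT.of_amb (amb_O_of_two _ h2) p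
  refine splitAb_model (model (wodd m F) hG ⟨_, hp⟩) hA (by omega) hp (ab_model hA
    ⟨Pi.single (Sum.inl ()) 1, fun w hw => ⟨w (Sum.inl ()), ?_⟩⟩)
  have hw' : ∀ j, w (Sum.inr j) = 0 := hw
  funext j
  rcases j with j | j
  · simp
  · simp [hw']

theorem poPlus {p : ℕ} {G : Type*} [Group G] [IsSimpleGroup G] (hG' : IsPOmegaPlusChar p G) : SplitAb p G := by
  obtain ⟨F, _, _, _, m, hm, ⟨e⟩⟩ := hG'
  have : Fact p.Prime := RGDClass.fact_prime (F := F)
  obtain ⟨n, rfl⟩ : ∃ n, m = n + 3 := ⟨m - 3, by omega⟩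
  have hs : IsSimpleGroup (Cfsg.POmega F (Cfsg.quadFormPlus (n + 3) F)) := e.symm.isSimpleGroup
  refine SplitAb.congr e.symm ?_
  rw [← coe_plusForm] at hs ⊢
  have hG : Good (plusForm (n + 3) F) := by
    apply good_of_finite (nondeg_plusForm (n + 3) F)
    rw [Module.finrank_fintype_fun_eq_card, Fintype.card_sum, Fintype.card_fin]
    omega
  have : Finite (TypeD.M (n + 1)).Group := TypeD.finite_W (TypeD.M (n + 1)).toCoxeterSystem
  refine splitAb_of_rgd Fact.out (rgdD_model (wplus (n + 3) F) hG (amb_plus _) (adm_plus _)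
    (TypeD.M (n + 1)).toCoxeterSystem) (G1D_eq_top (wplus (n + 3) F) (toPOmega hG) (toPOmega_surjective hG)
      (adm_plus _) _) ?_
  rintro _ ⟨s, hs, rfl⟩ _ ⟨t, ht, rfl⟩
  rw [← map_mul, ← map_mul]
  congr 1
  apply Subtype.ext
  refine tor_comm_of (AmbT.of_amb (amb_plus (n + 3)) p) (Subgroup.mem_subgroupOf.1 hs) (Subgroup.mem_subgroupOf.1 ht)
    fun w hw => ?_
  rw [(Submodule.mem_bot F).1 hw]
  simp

/-! ### Minus type -/

section Minus

variable {F : Type*} [Field F] {m : ℕ}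

theorem det_E {V : Type*} [AddCommGroup V] [Module F V] [FiniteDimensional F V] {Q : QuadraticForm F V} (hG : Good Q)
    {g : V ≃ₗ[F] V} (hg : g ∈ E Q) : LinearMap.det (g : V →ₗ[F] V) = 1 := by
  rw [← hG.commutator_eq_E] at hg
  have h1 : ⁅O Q, O Q⁆ ≤ (LinearEquiv.det (R := F) (M := V)).ker := by
    rw [Subgroup.commutator_le]
    intro a _ b _
    rw [MonoidHom.mem_ker, map_commutatorElement, commutatorElement_eq_one_iff_mul_comm, mul_comm]
  have h2 : LinearEquiv.det g = 1 := h1 hg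
  have h3 := congrArg Units.val h2
  rwa [LinearEquiv.coe_det] at h3

variable (a b : F) (hab : ∀ z₁ z₂ : F, z₁ ^ 2 + a * z₁ * z₂ + b * z₂ ^ 2 = 0 → z₁ = 0 ∧ z₂ = 0)

/-- multiplication by a root of the norm form -/
def JJ : ((Fin m ⊕ Fin m) ⊕ Fin 2 → F) →ₗ[F] ((Fin m ⊕ Fin m) ⊕ Fin 2 → F) where
  toFun v := Sum.elim (fun _ => 0) ![-b * v (Sum.inr 1), v (Sum.inr 0) + a * v (Sum.inr 1)]
  map_add' v w := by
    funext j
    rcases j with j | j
    · simp
    · fin_cases j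
      · simp; ring
      · simp; ring
  map_smul' c v := by
    funext j
    rcases j with j | j
    · simp
    · fin_cases j
      · simp; ring
      · simp; ring

theorem JJ_inl (v : (Fin m ⊕ Fin m) ⊕ Fin 2 → F) (j : Fin m ⊕ Fin m) : JJ a b v (Sum.inl j) = 0 := rfl

theorem JJ_zero (v : (Fin m ⊕ Fin m) ⊕ Fin 2 → F) : JJ a b v (Sum.inr 0) = -b * v (Sum.inr 1) := rfl

theorem JJ_one (v : (Fin m ⊕ Fin m) ⊕ Fin 2 → F) : JJ a b v (Sum.inr 1) = v (Sum.inr 0) + a * v (Sum.inr 1) := rfl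

theorem tor_form (h2 : (2 : F) ≠ 0) {g : ((Fin m ⊕ Fin m) ⊕ Fin 2 → F) ≃ₗ[F] ((Fin m ⊕ Fin m) ⊕ Fin 2 → F)}
    (hO : g ∈ O (minusForm m F a b))
    (hdet : LinearMap.det (g : ((Fin m ⊕ Fin m) ⊕ Fin 2 → F) →ₗ[F] ((Fin m ⊕ Fin m) ⊕ Fin 2 → F)) = 1)
    (hm : ∀ j : Fin m ⊕ Fin m, ∃ l : F, g (Pi.single (Sum.inl j) 1) = l • Pi.single (Sum.inl j) 1)
    (hV : ∀ w : (Fin m ⊕ Fin m) ⊕ Fin 2 → F, (∀ j, w (Sum.inl j) = 0) → ∀ j, g w (Sum.inl j) = 0) :
    ∃ α β : F, ∀ w : (Fin m ⊕ Fin m) ⊕ Fin 2 → F, (∀ j, w (Sum.inl j) = 0) → g w = α • w + β • JJ a b w := by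
  classical
  choose l hl using hm
  set Q := minusForm m F a b with hQ
  set e0 : (Fin m ⊕ Fin m) ⊕ Fin 2 → F := Pi.single (Sum.inr 0) 1 with he0
  set e1 : (Fin m ⊕ Fin m) ⊕ Fin 2 → F := Pi.single (Sum.inr 1) 1 with he1
  set x := g e0 with hx
  set y := g e1 with hy
  have hx0 : ∀ j, x (Sum.inl j) = 0 := hV e0 fun j => by rw [he0]; simp
  have hy0 : ∀ j, y (Sum.inl j) = 0 := hV e1 fun j => by rw [he1]; simp
  have hQv : ∀ v : (Fin m ⊕ Fin m) ⊕ Fin 2 → F, (∀ j, v (Sum.inl j) = 0) →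
      Q v = v (Sum.inr 0) ^ 2 + a * v (Sum.inr 0) * v (Sum.inr 1) + b * v (Sum.inr 1) ^ 2 := by
    intro v hv
    rw [hQ, coe_minusForm, quadFormMinus_apply]
    simp [hv]
  have hPv : ∀ v w : (Fin m ⊕ Fin m) ⊕ Fin 2 → F, (∀ j, v (Sum.inl j) = 0) → (∀ j, w (Sum.inl j) = 0) →
      polar Q v w = 2 * v (Sum.inr 0) * w (Sum.inr 0) + a * (v (Sum.inr 0) * w (Sum.inr 1) +
        v (Sum.inr 1) * w (Sum.inr 0)) + 2 * b * v (Sum.inr 1) * w (Sum.inr 1) := by
    intro v w hv hw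
    rw [hQ, polar_minusForm]
    simp [hv, hw]
  have h00 : e0 (Sum.inr 0) = 1 := by rw [he0]; simp
  have h01 : e0 (Sum.inr 1) = 0 := by rw [he0]; simp
  have h10 : e1 (Sum.inr 0) = 0 := by rw [he1]; simp
  have h11 : e1 (Sum.inr 1) = 1 := by rw [he1]; simp
  have E1 : x (Sum.inr 0) ^ 2 + a * x (Sum.inr 0) * x (Sum.inr 1) + b * x (Sum.inr 1) ^ 2 = 1 := by
    rw [← hQv x hx0, hx, mem_O.1 hO, hQv e0 (fun j => by rw [he0]; simp), h00, h01]
    ring
  have E2 : 2 * x (Sum.inr 0) * y (Sum.inr 0) + a * (x (Sum.inr 0) * y (Sum.inr 1) +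
        x (Sum.inr 1) * y (Sum.inr 0)) + 2 * b * x (Sum.inr 1) * y (Sum.inr 1) = a := by
    rw [← hPv x y hx0 hy0, hx, hy, polar_map hO, hPv e0 e1 (fun j => by rw [he0]; simp) (fun j => by rw [he1]; simp),
      h00, h01, h10, h11]
    ring
  have E4 : x (Sum.inr 0) * y (Sum.inr 1) - y (Sum.inr 0) * x (Sum.inr 1) = 1 := by
    -- the determinant
    have hA : LinearMap.toMatrix' (g : ((Fin m ⊕ Fin m) ⊕ Fin 2 → F) →ₗ[F] ((Fin m ⊕ Fin m) ⊕ Fin 2 → F)) =
        Matrix.fromBlocks (Matrix.diagonal l) 0 0 !![x (Sum.inr 0), y (Sum.inr 0); x (Sum.inr 1), y (Sum.inr 1)] := by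
      ext i j
      rw [LinearMap.toMatrix'_apply]
      rcases j with j | j
      · have h4 : (g : ((Fin m ⊕ Fin m) ⊕ Fin 2 → F) →ₗ[F] ((Fin m ⊕ Fin m) ⊕ Fin 2 → F))
            (Pi.single (Sum.inl j) 1) = l j • Pi.single (Sum.inl j) 1 := hl j
        rw [h4]
        rcases i with i | i
        · rw [Matrix.fromBlocks_apply₁₁, Pi.smul_apply, Pi.single_apply, smul_eq_mul, Matrix.diagonal_apply]
          by_cases hij : i = j
          · subst hij; simp
          · rw [if_neg (fun h => hij (Sum.inl.inj h)), if_neg hij, mul_zero]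
        · rw [Matrix.fromBlocks_apply₂₁, Pi.smul_apply, Pi.single_apply, if_neg (by simp)]
          simp
      · fin_cases j
        · rcases i with i | i
          · rw [Matrix.fromBlocks_apply₁₂]; exact hx0 i
          · rw [Matrix.fromBlocks_apply₂₂]
            fin_cases i <;> rfl
        · rcases i with i | i
          · rw [Matrix.fromBlocks_apply₁₂]; exact hy0 i
          · rw [Matrix.fromBlocks_apply₂₂]
            fin_cases i <;> rfl
    rw [← LinearMap.det_toMatrix', hA, Matrix.det_fromBlocks_zero₂₁, Matrix.det_diagonal, Fintype.prod_sum_type,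
      ← Finset.prod_mul_distrib, Matrix.det_fin_two_of] at hdet
    have h5 : ∏ i : Fin m, l (Sum.inl i) * l (Sum.inr i) = 1 := by
      refine Finset.prod_eq_one fun i _ => ?_
      have h6 : polar Q (g (Pi.single (Sum.inl (Sum.inl i)) 1)) (g (Pi.single (Sum.inl (Sum.inr i)) 1)) =
          polar Q (Pi.single (Sum.inl (Sum.inl i)) 1) (Pi.single (Sum.inl (Sum.inr i)) 1) := polar_map hO _ _
      have h7 : polar Q (Pi.single (Sum.inl (Sum.inl i)) 1) (Pi.single (Sum.inl (Sum.inr i)) 1) = 1 := by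
        rw [hQ, polar_minusForm]
        simp [Pi.single_apply]
      rw [hl, hl, polar_smul_left, polar_smul_right, h7] at h6
      simpa using h6
    rw [h5, one_mul] at hdet
    exact hdet
  set p := x (Sum.inr 0)
  set r := x (Sum.inr 1)
  set q := y (Sum.inr 0)
  set s := y (Sum.inr 1)
  have H1 : p * (p + a * r - s) + r * (b * r + q) = 0 := by linear_combination E1 - E4
  have H2 : q * (p + a * r - s) + s * (b * r + q) = 0 := by
    have h3 : 2 * (q * (p + a * r - s) + s * (b * r + q)) = 0 := by linear_combination E2 - a * E4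
    exact (mul_eq_zero.1 h3).resolve_left h2
  have hX : p + a * r - s = 0 := by
    linear_combination s * H1 - r * H2 - (p + a * r - s) * E4
  have hY : b * r + q = 0 := by
    linear_combination p * H2 - q * H1 - (b * r + q) * E4
  refine ⟨p, r, fun w hw => ?_⟩
  have hwe : w = w (Sum.inr 0) • e0 + w (Sum.inr 1) • e1 := by
    funext j
    rcases j with j | j
    · rw [hw j, he0, he1]; simp
    · fin_cases j
      · show w (Sum.inr 0) = w (Sum.inr 0) * e0 (Sum.inr 0) + w (Sum.inr 1) * e1 (Sum.inr 0)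
        rw [h00, h10]; ring
      · show w (Sum.inr 1) = w (Sum.inr 0) * e0 (Sum.inr 1) + w (Sum.inr 1) * e1 (Sum.inr 1)
        rw [h01, h11]; ring
  have hgw : g w = w (Sum.inr 0) • x + w (Sum.inr 1) • y := by
    conv_lhs => rw [hwe]
    rw [map_add, map_smul, map_smul]
  rw [hgw]
  funext j
  rcases j with j | j
  · show w (Sum.inr 0) * x (Sum.inl j) + w (Sum.inr 1) * y (Sum.inl j) = p * w (Sum.inl j) + r * JJ a b w (Sum.inl j)
    rw [hx0, hy0, hw, JJ_inl]
    ring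
  · fin_cases j
    · show w (Sum.inr 0) * p + w (Sum.inr 1) * q = p * w (Sum.inr 0) + r * JJ a b w (Sum.inr 0)
      rw [JJ_zero]
      linear_combination w (Sum.inr 1) * hY
    · show w (Sum.inr 0) * r + w (Sum.inr 1) * s = p * w (Sum.inr 1) + r * JJ a b w (Sum.inr 1)
      rw [JJ_one]
      linear_combination -w (Sum.inr 1) * hX

include hab in
/-- elements of the torus commute on the anisotropic part -/
theorem minus_comm {p : ℕ} (h2 : (2 : F) ≠ 0) (hG : Good (minusForm m F a b))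
    (hA : AmbT (toFrame (wminus m F a b hab)) p (E (minusForm m F a b))) :
    ∀ s ∈ WittRGD.Tor (toFrame (wminus m F a b hab)) (E (minusForm m F a b)),
      ∀ t ∈ WittRGD.Tor (toFrame (wminus m F a b hab)) (E (minusForm m F a b)),
        ∀ w ∈ (toFrame (wminus m F a b hab)).V0, s (t w) = t (s w) := by
  have key : ∀ s ∈ WittRGD.Tor (toFrame (wminus m F a b hab)) (E (minusForm m F a b)),
      ∃ α β : F, ∀ w : (Fin m ⊕ Fin m) ⊕ Fin 2 → F, (∀ j, w (Sum.inl j) = 0) → s w = α • w + β • JJ a b w := by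
    intro s hs
    refine tor_form a b h2 (E_le_O hs.1) (det_E hG hs.1) (fun j => ?_) fun w hw => ?_
    · rcases j with j | j
      · obtain ⟨l, -, hl⟩ := hs.2 (j, true)
        exact ⟨l, hl⟩
      · obtain ⟨l, -, hl⟩ := hs.2 (j, false)
        exact ⟨l, hl⟩
    · exact hA.map_V0 hs.1 hs.2 (ρ := id) (fun _ => rfl) hw
  intro s hs t ht w hw
  obtain ⟨α, β, h3⟩ := key s hs
  obtain ⟨γ, δ, h4⟩ := key t ht
  have hw' : ∀ j, w (Sum.inl j) = 0 := hw
  have hJ : ∀ v : (Fin m ⊕ Fin m) ⊕ Fin 2 → F, ∀ j, JJ a b v (Sum.inl j) = 0 := fun v j => rfl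
  rw [h4 w hw', h3 w hw', map_add, map_add, map_smul, map_smul, map_smul, map_smul, h3 w hw', h4 w hw',
    h3 _ (hJ w), h4 _ (hJ w)]
  module

theorem minus_good [Finite F] (hm : 2 ≤ m)
    (hab : ∀ z₁ z₂ : F, z₁ ^ 2 + a * z₁ * z₂ + b * z₂ ^ 2 = 0 → z₁ = 0 ∧ z₂ = 0) : Good (minusForm m F a b) := by
  apply good_of_finite (nondeg_minusForm m F a b hab)
  rw [Module.finrank_fintype_fun_eq_card, Fintype.card_sum, Fintype.card_sum, Fintype.card_fin,
    Fintype.card_fin]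
  omega

theorem minus_adm : ((embMinus m F a b hab).ngt ⟨(1, 0), -nf a b (1, 0), rfl⟩).c ≠ 0 := by
  change (1 : F)⁻¹ * (-nf a b (1, 0)) ≠ 0
  simp [nf]

include hab in
theorem splitAb_minus {p : ℕ} (hp2 : p ≠ 2) [Finite F] [hpp : Fact p.Prime] [CharP F p] (hm : 2 ≤ m)
    (hs : IsSimpleGroup (Cfsg.POmega F (Cfsg.quadFormMinus m F a b))) :
    SplitAb p (Cfsg.POmega F (Cfsg.quadFormMinus m F a b)) := by
  have h2 : (2 : F) ≠ 0 := two_ne hp2
  rw [← coe_minusForm] at hs ⊢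
  have hG := minus_good a b hm hab
  have hp := minus_adm (m := m) a b hab
  have hA : AmbT (toFrame (wminus m F a b hab)) p (E (minusForm m F a b)) := AmbT.of_amb (amb_O_of_two _ h2) p
  exact splitAb_model (model (wminus m F a b hab) hG ⟨_, hp⟩) hA (by omega) hp
    (model_comm _ hA (minus_comm a b hab h2 hG hA))

theorem poMinus {p : ℕ} (hp2 : p ≠ 2) {G : Type*} [Group G] [IsSimpleGroup G] (hG' : IsPOmegaMinusChar p G) :
    SplitAb p G := by
  obtain ⟨F, _, _, _, m, a, b, hm, hab, ⟨e⟩⟩ := hG'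
  have : Fact p.Prime := RGDClass.fact_prime (F := F)
  have hs : IsSimpleGroup (Cfsg.POmega F (Cfsg.quadFormMinus (m - 1) F a b)) := e.symm.isSimpleGroup
  exact (splitAb_minus a b hab hp2 (by omega) hs).congr e.symm

end Minus

end Cfsg.Agent.H463.LieOrth
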