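import Mathlib
import Cfsg.Agent.H463.Elts
import Cfsg.Agent.LieRecognition.FT61.O3
import Cfsg.Agent.SolvableStructure.KegelNormal

/-!
# The soluble case of the pair criterion

`H45 G` : the hypothesis of S3845 (a `p`-element, `p` odd, and a 2-element generating a soluble group commute up to
conjugacy).  `H45.quot` : it passes to quotients by soluble normal subgroups.  `comm_of_solvable` : in a soluble group
it implies that elements of odd prime power order commute with 2-elements.
-/

set_option autoImplicit false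

namespace Cfsg.Agent.H463.SolCase

open Subgroup

variable {G : Type*} [Group G]

/-- The hypothesis of S3845. -/
def H45 (G : Type*) [Group G] : Prop :=
  ∀ p : ℕ, p.Prime → p ≠ 2 → ∀ x y : G, x ≠ 1 → y ≠ 1 → (∃ k : ℕ, orderOf x = p ^ k) → (∃ k : ℕ, orderOf y = 2 ^ k) →
    Group.IsSolvable ↥(Subgroup.closure ({x, y} : Set G)) → ∃ g : G, Commute x (g * y * g⁻¹)

/-- Soluble by soluble. -/
theorem solvable_of_map {Q : Type*} [Group Q] (f : G →* Q) {K : Subgroup G} (h1 : Group.IsSolvable ↥(K.map f))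
    (h2 : Group.IsSolvable ↥f.ker) : Group.IsSolvable ↥K := by
  have := h1
  have h3 : Group.IsSolvable ↥(f.ker ⊓ K : Subgroup G) :=
    have := h2
    Group.isSolvable_of_isSolvable_injective (f := inclusion (inf_le_left : f.ker ⊓ K ≤ f.ker)) (inclusion_injective _)
  refine Group.isSolvable_of_ker_le_range (inclusion (inf_le_right : f.ker ⊓ K ≤ K)) (f.subgroupMap K) ?_
  intro z hz
  have hz' : f z = 1 := congrArg Subtype.val hz
  exact ⟨⟨z, hz', z.2⟩, rfl⟩

theorem H45.quot [Finite G] (h : H45 G) (N : Subgroup G) [N.Normal] (hN : Group.IsSolvable ↥N) : H45 (G ⧸ N) := by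
  intro p hp hp2 x y hx hy ⟨k, hk⟩ ⟨l, hl⟩ hs
  let π := QuotientGroup.mk' N
  have hπ : Function.Surjective π := QuotientGroup.mk'_surjective N
  obtain ⟨a, rfl, ha⟩ := Elts.exists_lift hp π hπ hk
  obtain ⟨b, rfl, hb⟩ := Elts.exists_lift Nat.prime_two π hπ hl
  have h1 : Group.IsSolvable ↥(closure ({a, b} : Set G)) := by
    refine solvable_of_map π ?_ ?_
    · rw [MonoidHom.map_closure, Set.image_pair]
      exact hs
    · rw [QuotientGroup.ker_mk']
      exact hN
  obtain ⟨g, hg⟩ := h p hp hp2 a b (fun h => hx (by rw [h, map_one])) (fun h => hy (by rw [h, map_one])) ha hb h1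
  refine ⟨π g, ?_⟩
  have := hg.map π
  simpa using this

/-- A subgroup containing a Sylow subgroup for every prime is everything. -/
theorem eq_top_of_sylow [Finite G] {H : Subgroup G} (h : ∀ p : ℕ, p.Prime → ∃ P : Sylow p G, (P : Subgroup G) ≤ H) :
    H = ⊤ := by
  rw [← Subgroup.index_eq_one]
  by_contra hne
  obtain ⟨p, hp, hd⟩ := Nat.exists_prime_and_dvd hne
  have : Fact p.Prime := ⟨hp⟩
  obtain ⟨P, hP⟩ := h p hp
  exact P.not_dvd_index (hd.trans (Subgroup.index_dvd_of_le hP))

/-- A subgroup containing a Sylow 2-subgroup and all elements of odd prime power order is everything. -/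
theorem eq_top_of_two [Finite G] {H : Subgroup G} (P : Sylow 2 G) (hP : (P : Subgroup G) ≤ H)
    (h : ∀ p : ℕ, p.Prime → p ≠ 2 → ∀ x : G, (∃ k : ℕ, orderOf x = p ^ k) → x ∈ H) : H = ⊤ := by
  refine eq_top_of_sylow fun p hp => ?_
  by_cases h2 : p = 2
  · subst h2
    exact ⟨P, hP⟩
  · have : Fact p.Prime := ⟨hp⟩
    refine ⟨default, fun x hx => h p hp h2 x ?_⟩
    obtain ⟨k, hk⟩ := IsPGroup.iff_orderOf.1 (default : Sylow p G).isPGroup' ⟨x, hx⟩
    exact ⟨k, by rw [← hk, Subgroup.orderOf_mk]⟩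

/-- **The soluble case.** -/
theorem comm_of_solvable : ∀ (n : ℕ) (G : Type*) [Group G] [Finite G], Nat.card G = n → Group.IsSolvable G → H45 G →
    ∀ p : ℕ, p.Prime → p ≠ 2 → ∀ x y : G, (∃ k : ℕ, orderOf x = p ^ k) → (∃ k : ℕ, orderOf y = 2 ^ k) →
      Commute x y := by
  intro n
  induction n using Nat.strong_induction_on with
  | _ n ih =>
  intro G _ _ hn hG h p hp hp2 x y hx hy
  have : Fact (Nat.Prime 2) := ⟨Nat.prime_two⟩
  rcases subsingleton_or_nontrivial G with hs | hnt
  · exact Subsingleton.elim _ _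
  obtain ⟨r, N, hr, hN, hNr, hNc, hN1, hNmin⟩ := Solvable.Carter.exists_min_normal G
  have : Fact r.Prime := ⟨hr⟩
  have hNcomm : ∀ a ∈ N, ∀ b ∈ N, a * b = b * a := fun a ha b hb =>
    congrArg Subtype.val (hNc.is_comm.comm (⟨a, ha⟩ : N) ⟨b, hb⟩)
  let π := QuotientGroup.mk' N
  -- commuting modulo `N`
  have hcomm : ∀ p : ℕ, p.Prime → p ≠ 2 → ∀ x y : G, (∃ k : ℕ, orderOf x = p ^ k) → (∃ k : ℕ, orderOf y = 2 ^ k) →
      x * y * x⁻¹ * y⁻¹ ∈ N := by
    intro p hp hp2 x y ⟨k, hk⟩ ⟨l, hl⟩
    have hlt : Nat.card (G ⧸ N) < n := by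
      rw [← hn, ← Subgroup.index_eq_card]
      have h1 := N.card_mul_index
      have h2 : 1 < Nat.card N := by
        rw [Subgroup.one_lt_card_iff_ne_bot]; exact hN1
      have h3 : 0 < N.index := Nat.pos_of_ne_zero Subgroup.index_ne_zero_of_finite
      nlinarith
    have h1 := ih _ hlt (G ⧸ N) rfl inferInstance (h.quot N (by infer_instance)) p hp hp2 (π x) (π y)
      (by
        obtain ⟨m, -, hm⟩ := (Nat.dvd_prime_pow hp).1 (hk ▸ orderOf_map_dvd π x)
        exact ⟨m, hm⟩)
      (by
        obtain ⟨m, -, hm⟩ := (Nat.dvd_prime_pow Nat.prime_two).1 (hl ▸ orderOf_map_dvd π y)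
        exact ⟨m, hm⟩)
    rw [← QuotientGroup.eq_one_iff (N := N)]
    show π (x * y * x⁻¹ * y⁻¹) = 1
    rw [map_mul, map_mul, map_mul, map_inv, map_inv, h1.eq]
    group
  have hord : ∀ a ∈ N, ∃ k : ℕ, orderOf a = r ^ k := fun a ha => by
    obtain ⟨k, hk⟩ := IsPGroup.iff_orderOf.1 hNr ⟨a, ha⟩
    exact ⟨k, by rw [← hk, Subgroup.orderOf_mk]⟩
  by_cases hr2 : r = 2
  · subst hr2
    obtain ⟨P, hNP⟩ := hNr.exists_le_sylow
    have htwo : ∀ u ∈ (P : Subgroup G), ∃ k : ℕ, orderOf u = 2 ^ k := fun u hu => by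
      obtain ⟨k, hk⟩ := IsPGroup.iff_orderOf.1 P.isPGroup' ⟨u, hu⟩
      exact ⟨k, by rw [← hk, Subgroup.orderOf_mk]⟩
    have hPn : (P : Subgroup G).Normal := by
      rw [← normalizer_eq_top_iff]
      refine eq_top_of_two P le_normalizer ?_
      intro q hq hq2 a ha
      have key : ∀ b : G, (∃ k : ℕ, orderOf b = q ^ k) → ∀ u ∈ (P : Subgroup G), b * u * b⁻¹ ∈ (P : Subgroup G) := by
        intro b hb u hu
        have h1 := (P : Subgroup G).mul_mem (hNP (hcomm q hq hq2 b u hb (htwo u hu))) hu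
        simpa using h1
      rw [mem_normalizer_iff]
      intro u
      refine ⟨key a ha u, fun hu => ?_⟩
      have h1 := key a⁻¹ (by simpa [orderOf_inv] using ha) _ hu
      have h2 : a⁻¹ * (a * u * a⁻¹) * a⁻¹⁻¹ = u := by group
      rwa [h2] at h1
    have hNZ : ∀ a ∈ N, ∀ u ∈ (P : Subgroup G), a * u = u * a := by
      have h1 := hNmin (centralizer ((P : Subgroup G) : Set G) ⊓ N) inferInstance inf_le_right
      have h2 := (h1.resolve_left (SolvableStructure.KegelNormal.centralizer_inf_ne_bot _ _ P.isPGroup' hNP hN1))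
      intro a ha u hu
      have h3 : a ∈ centralizer ((P : Subgroup G) : Set G) := (h2.symm ▸ ha : a ∈ centralizer ((P : Subgroup G) : Set G) ⊓ N).1
      exact (mem_centralizer_iff.1 h3 u hu).symm
    have hcen : ∀ a ∈ N, ∀ g : G, g * a = a * g := by
      intro a ha g
      by_contra hga
      have ha1 : a ≠ 1 := by rintro rfl; simp at hga
      have hH : centralizer ({a} : Set G) ≠ ⊤ := by
        intro htop
        have : g ∈ centralizer ({a} : Set G) := htop ▸ mem_top g
        exact hga (mem_centralizer_singleton_iff.1 this)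
      obtain ⟨q, b, hq, hb, hmiss⟩ := Elts.exists_missed hG hH
      by_cases hq2 : q = 2
      · subst hq2
        have hbp : IsPGroup 2 (zpowers b) := by
          obtain ⟨k, hk⟩ := hb
          rw [IsPGroup.iff_card]
          exact ⟨k, by rw [Nat.card_zpowers, hk]⟩
        obtain ⟨Q, hQ⟩ := hbp.exists_le_sylow
        obtain ⟨c, hc⟩ := MulAction.exists_smul_eq G P Q
        rw [Sylow.smul_eq_of_normal] at hc
        have hbP : b ∈ (P : Subgroup G) := by rw [hc]; exact hQ (mem_zpowers b)
        apply hmiss 1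
        rw [mem_centralizer_singleton_iff]
        simpa using (hNZ a ha b hbP).symm
      · have hb1 : b ≠ 1 := by
          rintro rfl
          apply hmiss 1
          rw [mem_centralizer_singleton_iff]
          simp
        obtain ⟨c, hc⟩ := h q hq hq2 b a hb1 ha1 hb (htwo a (hNP ha)) inferInstance
        apply hmiss c⁻¹
        rw [mem_centralizer_singleton_iff]
        have h1 := hc.eq
        have h2 : c⁻¹ * b * c⁻¹⁻¹ * a = c⁻¹ * (b * (c * a * c⁻¹)) * c := by group
        have h3 : a * (c⁻¹ * b * c⁻¹⁻¹) = c⁻¹ * ((c * a * c⁻¹) * b) * c := by group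
        rw [h2, h3, h1]
    -- conclusion
    have hn1 : x⁻¹ * (y * x * y⁻¹) ∈ N := by
      have h1 := hcomm p hp hp2 x⁻¹ y (by simpa [orderOf_inv] using hx) hy
      have h2 : x⁻¹ * (y * x * y⁻¹) = x⁻¹ * y * x⁻¹⁻¹ * y⁻¹ := by group
      rwa [h2]
    have h1 := Elts.eq_one_of_conj (x := x) (y := y) (n := x⁻¹ * (y * x * y⁻¹)) (by group)
      (hcen _ hn1 x)
      (by
        obtain ⟨k, hk⟩ := hord _ hn1
        obtain ⟨l, hl⟩ := hx
        rw [hk, hl]
        exact Nat.Coprime.pow _ _ ((Nat.coprime_primes Nat.prime_two hp).2 (Ne.symm hp2)))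
    have h2 : y * x = x * (x⁻¹ * (y * x * y⁻¹)) * y := by group
    rw [h1, mul_one] at h2
    exact h2.symm
  · -- `N` of odd order
    have hkey : ∀ P : Sylow 2 G, ∀ a ∈ N, ∀ u ∈ (P : Subgroup G), a * u = u * a := by
      intro P a ha
      by_cases ha1 : a = 1
      · subst ha1; intro u _; simp
      have htwo : ∀ u ∈ (P : Subgroup G), ∃ k : ℕ, orderOf u = 2 ^ k := fun u hu => by
        obtain ⟨k, hk⟩ := IsPGroup.iff_orderOf.1 P.isPGroup' ⟨u, hu⟩
        exact ⟨k, by rw [← hk, Subgroup.orderOf_mk]⟩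
      -- `PN` is normal
      let L : Subgroup G := (P : Subgroup G) ⊔ N
      have hLn : L.Normal := by
        rw [← normalizer_eq_top_iff]
        refine eq_top_of_two P (le_trans le_sup_left le_normalizer) ?_
        intro q hq hq2 c hc
        have key : ∀ b : G, (∃ k : ℕ, orderOf b = q ^ k) → ∀ u ∈ L, b * u * b⁻¹ ∈ L := by
          intro b hb
          have h1 : L ≤ L.comap (MulAut.conj b).toMonoidHom := by
            refine sup_le (fun u hu => ?_) (fun u hu => ?_)
            · show b * u * b⁻¹ ∈ L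
              have h1 := L.mul_mem (mem_sup_right (hcomm q hq hq2 b u hb (htwo u hu)) : _ ∈ L) (mem_sup_left hu : u ∈ L)
              simpa using h1
            · exact mem_sup_right (hN.conj_mem u hu b)
          exact fun u hu => h1 hu
        rw [mem_normalizer_iff]
        intro u
        refine ⟨key c hc u, fun hu => ?_⟩
        have h1 := key c⁻¹ (by simpa [orderOf_inv] using hc) _ hu
        have h2 : c⁻¹ * (c * u * c⁻¹) * c⁻¹⁻¹ = u := by group
        rwa [h2] at h1
      have hfr : N ⊔ normalizer ((P : Subgroup G) : Set G) = ⊤ := by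
        have h1 := Sylow.normalizer_sup_eq_top' P (le_sup_left : (P : Subgroup G) ≤ L)
        rw [← top_le_iff, ← h1]
        exact sup_le le_sup_right (sup_le (le_trans le_normalizer le_sup_right) le_sup_left)
      -- elements of the normaliser act as elements of `P`
      let E : Subgroup G :=
        { carrier := {m | ∃ u ∈ (P : Subgroup G), ∀ v ∈ (P : Subgroup G), m * v * m⁻¹ = u * v * u⁻¹}
          one_mem' := ⟨1, one_mem _, fun v _ => rfl⟩
          mul_mem' := by
            rintro m m' ⟨u, hu, h1⟩ ⟨u', hu', h1'⟩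
            refine ⟨u * u', mul_mem hu hu', fun v hv => ?_⟩
            have h2 : m * m' * v * (m * m')⁻¹ = m * (m' * v * m'⁻¹) * m⁻¹ := by group
            rw [h2, h1' v hv, h1 _ (mul_mem (mul_mem hu' hv) (inv_mem hu'))]
            group
          inv_mem' := by
            rintro m ⟨u, hu, h1⟩
            refine ⟨u⁻¹, inv_mem hu, fun v hv => ?_⟩
            have h2 := h1 (u⁻¹ * v * u⁻¹⁻¹) (mul_mem (mul_mem (inv_mem hu) hv) (inv_mem (inv_mem hu)))
            have h3 : u * (u⁻¹ * v * u⁻¹⁻¹) * u⁻¹ = v := by group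
            rw [h3] at h2
            have h4 : m⁻¹ * v * m⁻¹⁻¹ = m⁻¹ * (m * (u⁻¹ * v * u⁻¹⁻¹) * m⁻¹) * m := by rw [h2]; group
            rw [h4]; group }
      have hE : normalizer ((P : Subgroup G) : Set G) ≤ E := by
        have h1 : E.subgroupOf (normalizer ((P : Subgroup G) : Set G)) = ⊤ := by
          refine eq_top_of_two (P.subtype le_normalizer) ?_ ?_
          · intro u hu
            have hu' : (u : G) ∈ (P : Subgroup G) := hu
            exact ⟨u, hu', fun v _ => rfl⟩
          · intro q hq hq2 c ⟨k, hk⟩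
            have hc : ∃ k : ℕ, orderOf (c : G) = q ^ k := ⟨k, by rw [Subgroup.orderOf_coe, hk]⟩
            refine ⟨1, one_mem _, fun v hv => ?_⟩
            have h2 : (c : G) * v * (c : G)⁻¹ * v⁻¹ ∈ N := hcomm q hq hq2 c v hc (htwo v hv)
            have h3 : (c : G) * v * (c : G)⁻¹ * v⁻¹ ∈ (P : Subgroup G) :=
              mul_mem ((mem_normalizer_iff.1 c.2 v).1 hv) (inv_mem hv)
            have h4 := (IsPGroup.disjoint_of_ne r 2 hr2 N (P : Subgroup G) hNr P.isPGroup').le_bot ⟨h2, h3⟩
            rw [mem_bot, mul_inv_eq_one] at h4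
            show (c : G) * v * (c : G)⁻¹ = 1 * v * 1⁻¹
            rw [h4]; simp
        exact subgroupOf_eq_top.1 h1
      -- the centraliser of `a` in `P`
      by_contra hcon
      push Not at hcon
      obtain ⟨u0, hu0, hu0'⟩ := hcon
      have hQ : (centralizer ({a} : Set G)).subgroupOf (P : Subgroup G) ≠ ⊤ := by
        intro htop
        have h1 : (P : Subgroup G) ≤ centralizer ({a} : Set G) := subgroupOf_eq_top.1 htop
        exact hu0' (mem_centralizer_singleton_iff.1 (h1 hu0)).symm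
      obtain ⟨z, hz⟩ := LieRecognition.FT61.O3.exists_not_conj _ hQ
      have hz1 : (z : G) ≠ 1 := by
        intro h1
        apply hz 1
        have h2 : z = 1 := Subtype.ext h1
        rw [h2]
        simp
      obtain ⟨g, hg⟩ : ∃ g : G, Commute a (g * (z : G) * g⁻¹) :=
        h r hr hr2 a z ha1 hz1 (hord a ha) (htwo z z.2) inferInstance
      have hgtop : g ∈ N ⊔ normalizer ((P : Subgroup G) : Set G) := hfr ▸ mem_top g
      rw [mem_sup_of_normal_left] at hgtop
      obtain ⟨n', hn', m, hm, rfl⟩ := hgtop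
      obtain ⟨u, hu, hum⟩ := hE hm
      have h1 : n' * m * (z : G) * (n' * m)⁻¹ = n' * (u * z * u⁻¹) * n'⁻¹ := by
        rw [← hum z z.2]; group
      rw [h1] at hg
      have h2 : Commute a (u * z * u⁻¹) := by
        have h3 := hg.eq
        have h4 : n'⁻¹ * a * n' = a := by
          rw [mul_assoc, hNcomm a ha n' hn', inv_mul_cancel_left]
        show a * (u * z * u⁻¹) = (u * z * u⁻¹) * a
        calc a * (u * z * u⁻¹) = (n'⁻¹ * a * n') * (u * z * u⁻¹) := by rw [h4]
          _ = n'⁻¹ * (a * (n' * (u * z * u⁻¹) * n'⁻¹)) * n' := by group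
          _ = n'⁻¹ * ((n' * (u * z * u⁻¹) * n'⁻¹) * a) * n' := by rw [h3]
          _ = (u * z * u⁻¹) * (n'⁻¹ * a * n') := by group
          _ = _ := by rw [h4]
      apply hz ⟨u⁻¹, inv_mem hu⟩
      show u⁻¹⁻¹ * (z : G) * u⁻¹ ∈ centralizer ({a} : Set G)
      rw [inv_inv, mem_centralizer_singleton_iff]
      exact h2.eq.symm
    have hyP : ∀ a ∈ N, a * y = y * a := by
      have hbp : IsPGroup 2 (zpowers y) := by
        obtain ⟨k, hk⟩ := hy
        rw [IsPGroup.iff_card]
        exact ⟨k, by rw [Nat.card_zpowers, hk]⟩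
      obtain ⟨Q, hQ⟩ := hbp.exists_le_sylow
      exact fun a ha => hkey Q a ha y (hQ (mem_zpowers y))
    have hn1 : y⁻¹ * (x * y * x⁻¹) ∈ N := by
      have h1 := hcomm p hp hp2 x y hx hy
      have h2 := hN.conj_mem _ h1 y⁻¹
      have h3 : y⁻¹ * (x * y * x⁻¹ * y⁻¹) * y⁻¹⁻¹ = y⁻¹ * (x * y * x⁻¹) := by group
      rwa [h3] at h2
    have h1 := Elts.eq_one_of_conj (x := y) (y := x) (n := y⁻¹ * (x * y * x⁻¹)) (by group)
      (hyP _ hn1).symm
      (by
        obtain ⟨k, hk⟩ := hord _ hn1
        obtain ⟨l, hl⟩ := hy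
        rw [hk, hl]
        exact Nat.Coprime.pow _ _ ((Nat.coprime_primes hr Nat.prime_two).2 hr2))
    have h2 : x * y = y * (y⁻¹ * (x * y * x⁻¹)) * x := by group
    rw [h1, mul_one] at h2
    exact h2

/-- If elements of odd prime power order commute with 2-elements, every Sylow 2-subgroup is a direct factor. -/
theorem direct_factor [Finite G]
    (hc : ∀ p : ℕ, p.Prime → p ≠ 2 → ∀ x y : G, (∃ k : ℕ, orderOf x = p ^ k) → (∃ k : ℕ, orderOf y = 2 ^ k) → Commute x y)
    (P : Sylow 2 G) : (P : Subgroup G).Normal ∧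
      ∃ K : Subgroup G, K.Normal ∧ Subgroup.IsComplement' (P : Subgroup G) K := by
  have : Fact (Nat.Prime 2) := ⟨Nat.prime_two⟩
  have htwo : ∀ u ∈ (P : Subgroup G), ∃ k : ℕ, orderOf u = 2 ^ k := fun u hu => by
    obtain ⟨k, hk⟩ := IsPGroup.iff_orderOf.1 P.isPGroup' ⟨u, hu⟩
    exact ⟨k, by rw [← hk, Subgroup.orderOf_mk]⟩
  have hPn : (P : Subgroup G).Normal := by
    rw [← normalizer_eq_top_iff]
    refine eq_top_of_two P le_normalizer fun q hq hq2 a ha => ?_
    have h1 : a ∈ centralizer ((P : Subgroup G) : Set G) := by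
      rw [mem_centralizer_iff]
      exact fun u hu => (hc q hq hq2 a u ha (htwo u hu)).eq.symm
    rw [mem_normalizer_iff]
    intro u
    rw [mem_centralizer_iff] at h1
    constructor
    · intro hu
      rw [← h1 u hu, mul_inv_cancel_right]; exact hu
    · intro hu
      have h2 := h1 _ hu
      have h3 : a * u * a⁻¹ * a = a * u := by group
      rw [h3] at h2
      have h4 : u = a * u * a⁻¹ := by
        have := mul_left_cancel h2
        exact this
      rw [h4]; exact hu
  refine ⟨hPn, ?_⟩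
  obtain ⟨K, hK⟩ := Subgroup.exists_right_complement'_of_coprime (N := (P : Subgroup G)) P.card_coprime_index
  refine ⟨K, ?_, hK⟩
  have hKodd : ¬ 2 ∣ Nat.card K := by
    rw [← hK.symm.index_eq_card]
    exact P.not_dvd_index
  have hKC : K ≤ centralizer ((P : Subgroup G) : Set G) := by
    rw [← subgroupOf_eq_top]
    refine eq_top_of_two (default : Sylow 2 K) ?_ ?_
    · intro u hu
      have h1 : u = 1 := by
        obtain ⟨k, hk⟩ := IsPGroup.iff_orderOf.1 (default : Sylow 2 K).isPGroup' ⟨u, hu⟩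
        rw [Subgroup.orderOf_mk] at hk
        rw [← orderOf_eq_one_iff, hk]
        rcases Nat.eq_zero_or_pos k with rfl | hk0
        · rfl
        · exfalso
          apply hKodd
          exact (dvd_pow_self 2 hk0.ne').trans (hk ▸ orderOf_dvd_natCard u)
      rw [h1]; exact one_mem _
    · intro q hq hq2 c ⟨k, hk⟩
      show (c : G) ∈ centralizer ((P : Subgroup G) : Set G)
      rw [mem_centralizer_iff]
      exact fun u hu => (hc q hq hq2 c u ⟨k, by rw [Subgroup.orderOf_coe, hk]⟩ (htwo u hu)).eq.symm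
  rw [← normalizer_eq_top_iff, ← top_le_iff, ← hK.sup_eq_top]
  refine sup_le (fun u hu => ?_) le_normalizer
  rw [mem_normalizer_iff]
  intro k
  have hcom : ∀ k ∈ K, u * k * u⁻¹ = k := fun k hk => by
    rw [(mem_centralizer_iff.1 (hKC hk) u hu), mul_inv_cancel_right]
  constructor
  · intro hk; rw [hcom k hk]; exact hk
  · intro hk
    have h1 := hcom _ hk
    have h2 : u * k * u⁻¹ = k := by
      have h3 : u * (u * k * u⁻¹) * u⁻¹ = u * k * u⁻¹ := h1
      have h4 : u * k * u⁻¹ = k := by
        have := congrArg (fun w => u⁻¹ * w * u) h3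
        simpa [mul_assoc] using this
      exact h4
    rw [h2] at hk; exact hk

end Cfsg.Agent.H463.SolCase
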