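import Cfsg.Agent.H463.RegAut
import Cfsg.Agent.H463.SolCase
import Cfsg.Agent.SolvableStructure.MinNonNilpotent

/-!
# Minimal non-nilpotent groups and pairs of elements (S3847), the soluble part

`Star G` : a `p`-element and a `q`-element not generating `G` commute up to conjugacy.
`claim` : if `M` is a normal subgroup of a finite soluble group such that coprime elements of prime power order of `M`
commute up to conjugacy in `G`, they commute.
`main_solvable` : in a finite soluble group with `Star G` all proper subgroups are nilpotent.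
-/

set_option autoImplicit false

namespace Cfsg.Agent.H463.MinNN

open Subgroup Cfsg.Agent.H463.SolCase

universe u

variable {G : Type u} [Group G]

/-! ### Nilpotency and commuting elements -/

theorem isPGroup_zpowers [Finite G] {p : ℕ} {x : G} (hx : ∃ k : ℕ, orderOf x = p ^ k) [Fact p.Prime] :
    IsPGroup p (zpowers x) := by
  obtain ⟨k, hk⟩ := hx
  exact IsPGroup.of_card (n := k) (by rw [Nat.card_zpowers, hk])

theorem comm_of_nilpotent [Finite G] (h : Group.IsNilpotent G) {p q : ℕ} (hp : p.Prime) (hq : q.Prime) (hpq : p ≠ q)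
    {x y : G} (hx : ∃ k : ℕ, orderOf x = p ^ k) (hy : ∃ k : ℕ, orderOf y = q ^ k) : Commute x y := by
  have : Fact p.Prime := ⟨hp⟩
  have : Fact q.Prime := ⟨hq⟩
  exact SolvableStructure.MinNonNilpotent.commute_of_isNilpotent hpq (isPGroup_zpowers hx) (isPGroup_zpowers hy)
    (mem_zpowers x) (mem_zpowers y)

theorem order_of_mem {p : ℕ} [Fact p.Prime] {P : Subgroup G} (hP : IsPGroup p P) {u : G} (hu : u ∈ P) :
    ∃ k : ℕ, orderOf u = p ^ k := by
  obtain ⟨k, hk⟩ := IsPGroup.iff_orderOf.1 hP ⟨u, hu⟩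
  exact ⟨k, by rw [← hk, Subgroup.orderOf_mk]⟩

/-- elements mapping a subgroup into itself with their inverses normalise it -/
theorem mem_normalizer_of_two {L : Subgroup G} {c : G} (h1 : ∀ u ∈ L, c * u * c⁻¹ ∈ L)
    (h2 : ∀ u ∈ L, c⁻¹ * u * c ∈ L) : c ∈ normalizer (L : Set G) := by
  rw [mem_normalizer_iff]
  intro u
  refine ⟨h1 u, fun hu => ?_⟩
  have h3 := h2 _ hu
  have h4 : c⁻¹ * (c * u * c⁻¹) * c = u := by group
  rwa [h4] at h3

theorem nilpotent_of_comm [Finite G] (h : ∀ p q : ℕ, p.Prime → q.Prime → p ≠ q → ∀ x y : G,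
    (∃ k : ℕ, orderOf x = p ^ k) → (∃ k : ℕ, orderOf y = q ^ k) → Commute x y) : Group.IsNilpotent G := by
  refine (Group.isNilpotent_of_finite_tfae.out 0 3 rfl rfl).mpr fun p hp P => ?_
  rw [← normalizer_eq_top_iff]
  refine eq_top_of_sylow fun q hq => ?_
  by_cases hpq : p = q
  · subst hpq
    exact ⟨P, le_normalizer⟩
  · have : Fact q.Prime := ⟨hq⟩
    refine ⟨default, fun c hc => ?_⟩
    have hc' := order_of_mem (default : Sylow q G).isPGroup' hc
    have key : ∀ u ∈ (P : Subgroup G), Commute u c := fun u hu =>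
      h p q hp.out hq hpq u c (order_of_mem P.isPGroup' hu) hc'
    refine mem_normalizer_of_two (fun u hu => ?_) fun u hu => ?_
    · rw [← (key u hu).eq, mul_inv_cancel_right]
      exact hu
    · rw [mul_assoc, (key u hu).eq, inv_mul_cancel_left]
      exact hu

/-! ### The claim -/

/-- The condition on a normal subgroup. -/
def CC (M : Subgroup G) : Prop :=
  ∀ p q : ℕ, p.Prime → q.Prime → p ≠ q → ∀ x ∈ M, ∀ y ∈ M, (∃ k : ℕ, orderOf x = p ^ k) →
    (∃ k : ℕ, orderOf y = q ^ k) → ∃ g : G, Commute x (g * y * g⁻¹)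

theorem CC.map [Finite G] {H : Type u} [Group H] {M : Subgroup G} (h : CC M) (f : G →* H) : CC (M.map f) := by
  intro p q hp hq hpq x hx y hy ⟨k, hk⟩ ⟨l, hl⟩
  have hf : Function.Surjective (f.subgroupMap M) := f.subgroupMap_surjective M
  obtain ⟨a, ha, ha'⟩ := Elts.exists_lift hp (f.subgroupMap M) hf (q := ⟨x, hx⟩) (k := k)
    (by rw [Subgroup.orderOf_mk, hk])
  obtain ⟨b, hb, hb'⟩ := Elts.exists_lift hq (f.subgroupMap M) hf (q := ⟨y, hy⟩) (k := l)
    (by rw [Subgroup.orderOf_mk, hl])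
  have ha1 : f a = x := congrArg Subtype.val ha
  have hb1 : f b = y := congrArg Subtype.val hb
  obtain ⟨g, hg⟩ := h p q hp hq hpq a a.2 b b.2 (by simpa [Subgroup.orderOf_coe] using ha')
    (by simpa [Subgroup.orderOf_coe] using hb')
  refine ⟨f g, ?_⟩
  have := hg.map f
  simpa [ha1, hb1] using this

/-- **The claim.** -/
theorem claim : ∀ (n : ℕ) (G : Type u) [Group G] [Finite G], Nat.card G = n → Group.IsSolvable G →
    ∀ M : Subgroup G, M.Normal → CC M → ∀ p q : ℕ, p.Prime → q.Prime → p ≠ q → ∀ x ∈ M, ∀ y ∈ M,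
      (∃ k : ℕ, orderOf x = p ^ k) → (∃ k : ℕ, orderOf y = q ^ k) → Commute x y := by
  intro n
  induction n using Nat.strong_induction_on with
  | _ n ih =>
  intro G _ _ hn hG M hM h
  rcases subsingleton_or_nontrivial G with hs | hnt
  · exact fun _ _ _ _ _ x _ y _ _ _ => Subsingleton.elim _ _
  obtain ⟨r, N, hr, hN, hNr, hNc, hN1, hNmin⟩ := Solvable.Carter.exists_min_normal G
  have : Fact r.Prime := ⟨hr⟩
  have hNcomm : ∀ a ∈ N, ∀ b ∈ N, a * b = b * a := fun a ha b hb =>
    congrArg Subtype.val (hNc.is_comm.comm (⟨a, ha⟩ : N) ⟨b, hb⟩)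
  let π := QuotientGroup.mk' N
  have hπ : Function.Surjective π := QuotientGroup.mk'_surjective N
  -- commuting modulo `N`
  have hcomm : ∀ p q : ℕ, p.Prime → q.Prime → p ≠ q → ∀ x ∈ M, ∀ y ∈ M, (∃ k : ℕ, orderOf x = p ^ k) →
      (∃ k : ℕ, orderOf y = q ^ k) → x * y * x⁻¹ * y⁻¹ ∈ N := by
    intro p q hp hq hpq x hxM y hyM ⟨k, hk⟩ ⟨l, hl⟩
    have hlt : Nat.card (G ⧸ N) < n := by
      rw [← hn, ← Subgroup.index_eq_card]
      have h1 := N.card_mul_index
      have h2 : 1 < Nat.card N := by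
        rw [Subgroup.one_lt_card_iff_ne_bot]; exact hN1
      have h3 : 0 < N.index := Nat.pos_of_ne_zero Subgroup.index_ne_zero_of_finite
      nlinarith
    have h1 := ih _ hlt (G ⧸ N) rfl inferInstance (M.map π) (hM.map π hπ) (h.map π) p q hp hq hpq
      (π x) (mem_map_of_mem π hxM) (π y) (mem_map_of_mem π hyM)
      (by
        obtain ⟨m, -, hm⟩ := (Nat.dvd_prime_pow hp).1 (hk ▸ orderOf_map_dvd π x)
        exact ⟨m, hm⟩)
      (by
        obtain ⟨m, -, hm⟩ := (Nat.dvd_prime_pow hq).1 (hl ▸ orderOf_map_dvd π y)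
        exact ⟨m, hm⟩)
    rw [← QuotientGroup.eq_one_iff (N := N)]
    show π (x * y * x⁻¹ * y⁻¹) = 1
    rw [map_mul, map_mul, map_mul, map_inv, map_inv, h1.eq]
    group
  have hord : ∀ a ∈ N, ∃ k : ℕ, orderOf a = r ^ k := fun a ha => order_of_mem hNr ha
  rcases hNmin (N ⊓ M) inferInstance inf_le_left with hbot | hNM'
  · -- `N` and `M` intersect trivially
    intro p q hp hq hpq x hxM y hyM hx hy
    have h1 := hcomm p q hp hq hpq x hxM y hyM hx hy
    have h2 : x * y * x⁻¹ * y⁻¹ ∈ M :=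
      M.mul_mem (M.mul_mem (M.mul_mem hxM hyM) (M.inv_mem hxM)) (M.inv_mem hyM)
    have h3 : x * y * x⁻¹ * y⁻¹ ∈ (⊥ : Subgroup G) := hbot ▸ mem_inf.2 ⟨h1, h2⟩
    rw [mem_bot, mul_inv_eq_one, mul_inv_eq_iff_eq_mul] at h3
    exact h3
  have hNM : N ≤ M := inf_eq_left.1 hNM'
  -- elements of order prime to `r` centralise `N`
  have hkey : ∀ q : ℕ, q.Prime → q ≠ r → ∀ y ∈ M, (∃ k : ℕ, orderOf y = q ^ k) → ∀ a ∈ N, a * y = y * a := by
    intro q hq hqr y hyM hy
    have : Fact q.Prime := ⟨hq⟩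
    have hyP : IsPGroup q (zpowers (⟨y, hyM⟩ : M)) := isPGroup_zpowers (by
      obtain ⟨k, hk⟩ := hy
      exact ⟨k, by rw [Subgroup.orderOf_mk, hk]⟩)
    obtain ⟨Q, hQ⟩ := hyP.exists_le_sylow
    let Q' : Subgroup G := (Q : Subgroup M).map M.subtype
    have hyQ : y ∈ Q' := ⟨⟨y, hyM⟩, hQ (mem_zpowers _), rfl⟩
    have hQ'M : Q' ≤ M := by
      rintro _ ⟨u, -, rfl⟩
      exact u.2
    have hQ'P : IsPGroup q Q' := Q.isPGroup'.map M.subtype
    -- Frattini
    have hfr : N ⊔ normalizer (Q' : Set G) = ⊤ := by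
      let L : Subgroup M := (Q : Subgroup M) ⊔ N.subgroupOf M
      have hLn : L.Normal := by
        rw [← normalizer_eq_top_iff]
        refine eq_top_of_sylow fun s hs => ?_
        by_cases hsq : s = q
        · subst hsq
          exact ⟨Q, le_sup_left.trans le_normalizer⟩
        · have : Fact s.Prime := ⟨hs⟩
          refine ⟨default, fun c hc => ?_⟩
          have key : ∀ b : M, (∃ k : ℕ, orderOf b = s ^ k) → ∀ u ∈ L, b * u * b⁻¹ ∈ L := by
            intro b hb
            have h1 : L ≤ L.comap (MulAut.conj b).toMonoidHom := by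
              refine sup_le (fun u hu => ?_) (fun u hu => ?_)
              · show b * u * b⁻¹ ∈ L
                have hu' : ∃ k : ℕ, orderOf (u : G) = q ^ k := by
                  obtain ⟨k, hk⟩ := order_of_mem Q.isPGroup' hu
                  exact ⟨k, by rw [Subgroup.orderOf_coe, hk]⟩
                have hb' : ∃ k : ℕ, orderOf (b : G) = s ^ k := by
                  obtain ⟨k, hk⟩ := hb
                  exact ⟨k, by rw [Subgroup.orderOf_coe, hk]⟩
                have h2 : b * u * b⁻¹ * u⁻¹ ∈ N.subgroupOf M :=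
                  mem_subgroupOf.2 (hcomm s q hs hq hsq b b.2 u u.2 hb' hu')
                have h3 : b * u * b⁻¹ = (b * u * b⁻¹ * u⁻¹) * u := by group
                rw [h3]
                exact L.mul_mem (mem_sup_right h2) (mem_sup_left hu)
              · exact mem_sup_right ((inferInstance : (N.subgroupOf M).Normal).conj_mem u hu b)
            exact fun u hu => h1 hu
          have hc' : ∃ k : ℕ, orderOf c = s ^ k := order_of_mem (default : Sylow s M).isPGroup' hc
          refine mem_normalizer_of_two (key c hc') fun u hu => ?_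
          have h1 := key c⁻¹ (by simpa [orderOf_inv] using hc') u hu
          rwa [inv_inv] at h1
      have h1 := Sylow.normalizer_sup_eq_top' Q (le_sup_left : (Q : Subgroup M) ≤ L)
      have h2 := Sylow.normalizer_sup_eq_top Q
      have hMle : M ≤ N ⊔ normalizer (Q' : Set G) := by
        have h3 : (⊤ : Subgroup M).map M.subtype ≤ N ⊔ normalizer (Q' : Set G) := by
          rw [← h1, Subgroup.map_sup, Subgroup.map_sup]
          refine sup_le ?_ (sup_le ?_ ?_)
          · exact (le_normalizer_map M.subtype).trans le_sup_right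
          · exact le_normalizer.trans le_sup_right
          · refine le_trans ?_ le_sup_left
            rintro _ ⟨u, hu, rfl⟩
            exact mem_subgroupOf.1 hu
        rwa [← MonoidHom.range_eq_map, range_subtype] at h3
      rw [← top_le_iff, ← h2]
      exact sup_le le_sup_right hMle
    -- the action on `N`
    let ρ : G →* MulAut N := MulAut.conjNormal
    have hρ : ∀ (g : G) (a : N), ((ρ g a : N) : G) = g * a * g⁻¹ := fun g a => MulAut.conjNormal_apply g a
    let B : Subgroup (MulAut N) := Q'.map ρ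
    by_contra hcon
    push Not at hcon
    obtain ⟨a0, ha0, ha0y⟩ := hcon
    have hρy : ρ y ≠ 1 := by
      intro h1
      apply ha0y
      have h2 := hρ y ⟨a0, ha0⟩
      rw [h1, MulAut.one_apply] at h2
      have h3 : a0 = y * a0 * y⁻¹ := h2
      rw [eq_mul_inv_iff_mul_eq] at h3
      exact h3
    have hBP : IsPGroup q B := hQ'P.map ρ
    have hBnt : Nontrivial B := ⟨⟨⟨ρ y, mem_map_of_mem ρ hyQ⟩, 1, fun h1 => hρy (congrArg Subtype.val h1)⟩⟩
    have hfinB : Finite B := inferInstance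
    have hct := hBP.center_nontrivial
    obtain ⟨⟨⟨τ, hτB⟩, hτZ⟩, hτ1⟩ := exists_ne (1 : center B)
    have hτ1' : τ ≠ 1 := fun h1 => hτ1 (Subtype.ext (Subtype.ext h1))
    have hτc : ∀ σ ∈ B, σ * τ = τ * σ := by
      intro σ hσ
      have h1 := mem_center_iff.1 hτZ ⟨σ, hσ⟩
      exact congrArg Subtype.val h1
    obtain ⟨t, htQ, htτ⟩ := hτB
    let T : Subgroup (MulAut N) := B ⊓ centralizer (B : Set (MulAut N))
    have hNA : ∀ a b : N, a * b = b * a := fun a b => Subtype.ext (hNcomm a a.2 b b.2)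
    obtain ⟨a, ha⟩ := RegAut.exists_regular hNA T
      (by
        intro σ hσ τ' hτ'
        exact ((mem_centralizer_iff.1 hτ'.2) σ hσ.1))
      (by
        intro σ hσ
        obtain ⟨k, hk⟩ := order_of_mem hBP hσ.1
        obtain ⟨l, hl⟩ := IsPGroup.iff_card.1 hNr
        rw [hk, hl]
        exact Nat.Coprime.pow _ _ ((Nat.coprime_primes hq hr).2 hqr))
    obtain ⟨g, hg⟩ := h r q hr hq (Ne.symm hqr) a (hNM a.2) t (hQ'M htQ) (hord a a.2) (order_of_mem hQ'P htQ)
    have hgtop : g ∈ N ⊔ normalizer (Q' : Set G) := hfr ▸ mem_top g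
    rw [mem_sup_of_normal_left] at hgtop
    obtain ⟨n', hn', m, hm, rfl⟩ := hgtop
    have h2 : Commute (a : G) (m * t * m⁻¹) := by
      have h3 : (a : G) * (n' * m * t * (n' * m)⁻¹) = n' * m * t * (n' * m)⁻¹ * a := hg.eq
      have h4 : n'⁻¹ * (a : G) * n' = a := by
        rw [mul_assoc, hNcomm a a.2 n' hn', inv_mul_cancel_left]
      show (a : G) * (m * t * m⁻¹) = (m * t * m⁻¹) * a
      calc (a : G) * (m * t * m⁻¹) = (n'⁻¹ * a * n') * (m * t * m⁻¹) := by rw [h4]
        _ = n'⁻¹ * (a * (n' * m * t * (n' * m)⁻¹)) * n' := by group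
        _ = n'⁻¹ * (n' * m * t * (n' * m)⁻¹ * a) * n' := by rw [h3]
        _ = (m * t * m⁻¹) * (n'⁻¹ * a * n') := by group
        _ = _ := by rw [h4]
    have hmem : ρ (m * t * m⁻¹) ∈ T := by
      refine mem_inf.2 ⟨mem_map_of_mem ρ ((mem_normalizer_iff.1 hm t).1 htQ), mem_centralizer_iff.2 ?_⟩
      rintro _ ⟨u, hu, rfl⟩
      have hu' : m⁻¹ * u * m ∈ Q' := by
        have h3 := (mem_normalizer_iff.1 hm (m⁻¹ * u * m)).2
        apply h3
        have h4 : m * (m⁻¹ * u * m) * m⁻¹ = u := by group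
        rw [h4]; exact hu
      have h5 := hτc _ (mem_map_of_mem ρ hu')
      rw [← htτ, ← map_mul, ← map_mul] at h5
      rw [← map_mul, ← map_mul]
      have h6 : u * (m * t * m⁻¹) = m * ((m⁻¹ * u * m) * t) * m⁻¹ := by group
      have h7 : m * t * m⁻¹ * u = m * (t * (m⁻¹ * u * m)) * m⁻¹ := by group
      rw [h6, h7, map_mul, map_mul, h5, ← map_mul, ← map_mul]
    have h8 : ρ (m * t * m⁻¹) a = a := by
      apply Subtype.ext
      rw [hρ, ← h2.eq, mul_inv_cancel_right]
    have h9 := ha _ hmem h8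
    apply hτ1'
    rw [← htτ]
    rw [map_mul, map_mul, map_inv, mul_inv_eq_one] at h9
    exact mul_eq_left.1 h9
  -- conclusion
  have hfin : ∀ p q : ℕ, p.Prime → q.Prime → p ≠ q → p ≠ r → ∀ x ∈ M, ∀ y ∈ M,
      (∃ k : ℕ, orderOf x = p ^ k) → (∃ k : ℕ, orderOf y = q ^ k) → Commute x y := by
    intro p q hp hq hpq hpr x hxM y hyM hx hy
    have hn1 : x⁻¹ * (y * x * y⁻¹) ∈ N := by
      have h1 := hcomm p q hp hq hpq x⁻¹ (M.inv_mem hxM) y hyM (by simpa [orderOf_inv] using hx) hy
      have h2 : x⁻¹ * (y * x * y⁻¹) = x⁻¹ * y * x⁻¹⁻¹ * y⁻¹ := by group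
      rwa [h2]
    have h1 := Elts.eq_one_of_conj (x := x) (y := y) (n := x⁻¹ * (y * x * y⁻¹)) (by group)
      (hkey p hp hpr x hxM hx _ hn1).symm
      (by
        obtain ⟨k, hk⟩ := hord _ hn1
        obtain ⟨l, hl⟩ := hx
        rw [hk, hl]
        exact Nat.Coprime.pow _ _ ((Nat.coprime_primes hr hp).2 (Ne.symm hpr)))
    have h2 : y * x = x * (x⁻¹ * (y * x * y⁻¹)) * y := by group
    rw [h1, mul_one] at h2
    exact h2.symm
  intro p q hp hq hpq x hxM y hyM hx hy
  by_cases hpr : p = r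
  · exact (hfin q p hq hp (Ne.symm hpq) (fun h1 => hpq (hpr.trans h1.symm)) y hyM x hxM hy hx).symm
  · exact hfin p q hp hq hpq hpr x hxM y hyM hx hy

end Cfsg.Agent.H463.MinNN
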