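import Cfsg.Agent.H463.MinNN

/-!
# Minimal non-nilpotent groups and pairs of elements (S3847), the soluble part, II
-/

set_option autoImplicit false

namespace Cfsg.Agent.H463.MinNN2

open Subgroup Cfsg.Agent.H463.SolCase Cfsg.Agent.H463.MinNN
open scoped Pointwise

universe u

variable {G : Type u} [Group G]

/-- The condition of S3847. -/
def Star (G : Type u) [Group G] : Prop :=
  ∀ p q : ℕ, p.Prime → q.Prime → p ≠ q → ∀ x y : G, (∃ k : ℕ, orderOf x = p ^ k) →
    (∃ k : ℕ, orderOf y = q ^ k) → closure ({x, y} : Set G) ≠ ⊤ → ∃ g : G, Commute x (g * y * g⁻¹)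

theorem closure_pair_le {H : Subgroup G} {x y : G} (hx : x ∈ H) (hy : y ∈ H) : closure ({x, y} : Set G) ≤ H := by
  rw [closure_le]
  rintro z (rfl | rfl)
  · exact hx
  · exact hy

/-- decomposition along a normal subgroup and a cyclic one -/
theorem exists_decomp {Q : Subgroup G} (hQ : Q.Normal) {b : G} (htop : Q ⊔ zpowers b = ⊤) (g : G) :
    ∃ u ∈ Q, ∃ i : ℤ, g = u * b ^ i := by
  have h := mem_top g
  rw [← htop, mem_sup_of_normal_left] at h
  obtain ⟨u, hu, c, hc, h1⟩ := h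
  obtain ⟨i, rfl⟩ := mem_zpowers_iff.1 hc
  exact ⟨u, hu, i, h1.symm⟩

/-- **Key lemma.** -/
theorem key_lemma [Finite G] {q : ℕ} [Fact q.Prime] {Q : Subgroup G} (hQn : Q.Normal) (hQ : IsPGroup q Q) {b : G}
    (htop : Q ⊔ zpowers b = ⊤) {H : Subgroup G} (hH : IsCoatom H) (hb : b ∈ H)
    (hst : ∀ x ∈ Q, closure ({x, b} : Set G) ≠ ⊤ → ∃ g : G, Commute x (g * b * g⁻¹)) :
    ∀ x ∈ H ⊓ Q, Commute x b := by
  have hnilQ : Group.IsNilpotent Q := hQ.isNilpotent
  set R := H ⊓ Q with hR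
  have hRQ : R ≤ Q := inf_le_right
  -- `R` is normal
  have hle : H ≤ normalizer (R : Set G) := by
    intro h hh
    refine mem_normalizer_of_two (fun u hu => ?_) fun u hu => ?_
    · exact mem_inf.2 ⟨H.mul_mem (H.mul_mem hh hu.1) (H.inv_mem hh), hQn.conj_mem u hu.2 h⟩
    · refine mem_inf.2 ⟨H.mul_mem (H.mul_mem (H.inv_mem hh) hu.1) hh, ?_⟩
      have := hQn.conj_mem u hu.2 h⁻¹
      rwa [inv_inv] at this
  have hne : R.subgroupOf Q < ⊤ := by
    rw [lt_top_iff_ne_top]
    intro h1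
    rw [subgroupOf_eq_top] at h1
    apply hH.1
    rw [← top_le_iff, ← htop]
    exact sup_le (h1.trans inf_le_left) (by rw [zpowers_le]; exact hb)
  have hlt := Group.normalizerCondition_of_isNilpotent (G := Q) (R.subgroupOf Q) hne
  obtain ⟨m, hm, hm'⟩ := SetLike.exists_of_lt hlt
  have hmN : (m : G) ∈ normalizer (R : Set G) := by
    refine mem_normalizer_of_two (fun u hu => ?_) fun u hu => ?_
    · exact mem_subgroupOf.1 ((mem_normalizer_iff.1 hm ⟨u, hRQ hu⟩).1 (mem_subgroupOf.2 hu))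
    · have h2 := (mem_normalizer_iff.1 ((normalizer ((R.subgroupOf Q : Subgroup Q) : Set Q)).inv_mem hm) ⟨u, hRQ hu⟩).1
        (mem_subgroupOf.2 hu)
      have h3 := mem_subgroupOf.1 h2
      simpa using h3
  have hmH : (m : G) ∉ H := fun h => hm' (mem_subgroupOf.2 (mem_inf.2 ⟨h, m.2⟩))
  have hNtop : normalizer (R : Set G) = ⊤ := by
    refine hH.2 _ (lt_of_le_of_ne hle fun h => hmH ?_)
    rw [h]
    exact hmN
  have hRn : R.Normal := normalizer_eq_top_iff.1 hNtop
  -- the induction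
  have key : ∀ n : ℕ, ∀ x : Q, (x : G) ∈ R → x ∈ Subgroup.upperCentralSeries Q n → Commute (x : G) b := by
    intro n
    induction n with
    | zero =>
      intro x _ hx
      rw [Subgroup.upperCentralSeries_zero, mem_bot] at hx
      rw [hx]
      exact Commute.one_left b
    | succ n ih =>
      intro x hxR hx
      obtain ⟨g, hg⟩ := hst x x.2 (fun h1 => hH.1 (by
        rw [← top_le_iff, ← h1]
        exact closure_pair_le hxR.1 hb))
      obtain ⟨v, hv, i, rfl⟩ := exists_decomp hQn htop g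
      have h1 : v * b ^ i * b * (v * b ^ i)⁻¹ = v * b * v⁻¹ := by
        have : b ^ i * b = b * b ^ i := ((Commute.refl b).zpow_left i).eq
        rw [mul_assoc v, this]
        group
      rw [h1] at hg
      -- `v⁻¹ x v` commutes with `b`
      have h2 : Commute (v⁻¹ * x * v) b := by
        show v⁻¹ * x * v * b = b * (v⁻¹ * x * v)
        have h3 : (x : G) * (v * b * v⁻¹) = (v * b * v⁻¹) * x := hg.eq
        calc v⁻¹ * x * v * b = v⁻¹ * (x * (v * b * v⁻¹)) * v := by group
          _ = v⁻¹ * ((v * b * v⁻¹) * x) * v := by rw [h3]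
          _ = b * (v⁻¹ * x * v) := by group
      let v' : Q := ⟨v, hv⟩
      have h3 : x⁻¹ * v'⁻¹ * x⁻¹⁻¹ * v'⁻¹⁻¹ ∈ Subgroup.upperCentralSeries Q n :=
        (Subgroup.mem_upperCentralSeries_succ_iff.1 (inv_mem hx)) v'⁻¹
      rw [inv_inv, inv_inv] at h3
      have h4 : ((x⁻¹ * v'⁻¹ * x * v' : Q) : G) ∈ R := by
        have h5 : ((x⁻¹ * v'⁻¹ * x * v' : Q) : G) = (x : G)⁻¹ * (v⁻¹ * x * v⁻¹⁻¹) := by
          simp [v', mul_assoc]
        rw [h5]
        exact R.mul_mem (R.inv_mem hxR) (hRn.conj_mem _ hxR _)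
      have h5 := ih _ h4 h3
      have h6 : (x : G) = (v⁻¹ * x * v) * ((x⁻¹ * v'⁻¹ * x * v' : Q) : G)⁻¹ := by
        simp [v', mul_assoc]
      rw [h6]
      exact h2.mul_left h5.inv_left
  intro x hx
  refine key (Group.nilpotencyClass Q) ⟨x, hRQ hx⟩ hx ?_
  rw [Subgroup.upperCentralSeries_nilpotencyClass]
  exact mem_top _

/-- a nonidentity-prime-power element of order prime to the index of a normal subgroup lies in it -/
theorem mem_of_index [Finite G] {M : Subgroup G} (hM : M.Normal) {p : ℕ} (hp : p.Prime) (hidx : M.index = p) {s : ℕ}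
    (hs : s.Prime) (hsp : s ≠ p) {x : G} (hx : ∃ k : ℕ, orderOf x = s ^ k) : x ∈ M := by
  obtain ⟨k, hk⟩ := hx
  have h1 : orderOf (QuotientGroup.mk' M x) ∣ orderOf x := orderOf_map_dvd _ x
  have h2 : orderOf (QuotientGroup.mk' M x) ∣ M.index := by
    rw [Subgroup.index]; exact orderOf_dvd_natCard _
  rw [hk] at h1
  rw [hidx] at h2
  have h5 : orderOf (QuotientGroup.mk' M x) = 1 :=
    Nat.eq_one_of_dvd_coprimes (Nat.Coprime.pow_left k ((Nat.coprime_primes hs hp).mpr hsp)) h1 h2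
  rw [orderOf_eq_one_iff] at h5
  exact (QuotientGroup.eq_one_iff x).mp h5

/-- **The soluble case of S3847.** -/
theorem main_solvable [Finite G] (hsol : Group.IsSolvable G) (hnil : ¬ Group.IsNilpotent G) (h : Star G) :
    ∀ H : Subgroup G, H ≠ ⊤ → Group.IsNilpotent H := by
  have hnt : Nontrivial G := by
    by_contra h
    rw [not_nontrivial_iff_subsingleton] at h
    exact hnil inferInstance
  obtain ⟨M, hM, hidx⟩ := SolvableStructure.MinNonNilpotent.exists_normal_index_prime (G := G)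
  obtain ⟨p, hpdef⟩ : ∃ p, p = M.index := ⟨_, rfl⟩
  rw [← hpdef] at hidx
  have hMtop : M ≠ ⊤ := by
    intro h
    rw [← Subgroup.index_eq_one, ← hpdef] at h
    exact hidx.one_lt.ne' h
  have hCC : CC M := fun r s hr hs hrs x hx y hy hxo hyo =>
    h r s hr hs hrs x y hxo hyo fun h1 => hMtop (by
      rw [← top_le_iff, ← h1]
      exact closure_pair_le hx hy)
  have hMc := claim _ G rfl hsol M hM hCC
  have hmem : ∀ s : ℕ, s.Prime → s ≠ p → ∀ x : G, (∃ k : ℕ, orderOf x = s ^ k) → x ∈ M := fun s hs hsp x hx =>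
    mem_of_index hM hidx hpdef.symm hs hsp hx
  have hMn : Group.IsNilpotent M := by
    refine nilpotent_of_comm fun r s hr hs hrs x y hx hy => ?_
    have := hMc r s hr hs hrs x x.2 y y.2 (by simpa [Subgroup.orderOf_coe] using hx)
      (by simpa [Subgroup.orderOf_coe] using hy)
    exact Subtype.ext this.eq
  -- a pair of elements
  obtain ⟨q, hq, hqp, x, b, hx, hb, hxb⟩ : ∃ q : ℕ, q.Prime ∧ q ≠ p ∧ ∃ x b : G, (∃ k : ℕ, orderOf x = q ^ k) ∧
      (∃ k : ℕ, orderOf b = p ^ k) ∧ ¬ Commute x b := by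
    by_contra hcon
    push Not at hcon
    apply hnil
    refine nilpotent_of_comm fun r s hr hs hrs x y hx hy => ?_
    by_cases hsp : s = p
    · subst hsp
      exact hcon r hr hrs x y hx hy
    · by_cases hrp : r = p
      · subst hrp
        exact (hcon s hs hsp y x hy hx).symm
      · exact hMc r s hr hs hrs x (hmem r hr hrp x hx) y (hmem s hs hsp y hy) hx hy
  have hpF : Fact p.Prime := ⟨hidx⟩
  have hqF : Fact q.Prime := ⟨hq⟩
  have hbM : b ∉ M := fun hb' => hxb (hMc q p hq hidx hqp x (hmem q hq hqp x hx) b hb' hx hb)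
  -- the normal Sylow subgroup
  obtain ⟨QS, hQS⟩ := (isPGroup_zpowers hx).exists_le_sylow
  have hQn : (QS : Subgroup G).Normal :=
    SolvableStructure.MinNonNilpotent.sylow_normal_of_normal_nilpotent_index M hMn hidx hpdef.symm hqp QS
  obtain ⟨Q, hQdef⟩ : ∃ Q : Subgroup G, Q = (QS : Subgroup G) := ⟨_, rfl⟩
  have hQP : IsPGroup q Q := hQdef ▸ QS.isPGroup'
  rw [← hQdef] at hQn
  have hxQ : x ∈ Q := hQdef ▸ hQS (mem_zpowers x)
  have hQM : Q ≤ M := fun u hu => hmem q hq hqp u (order_of_mem hQP hu)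
  -- elements of order a power of `q` are in `Q`
  have hQall : ∀ u : G, (∃ k : ℕ, orderOf u = q ^ k) → u ∈ Q := by
    intro u hu
    obtain ⟨P', hP'⟩ := (isPGroup_zpowers hu).exists_le_sylow
    have h1 : (P' : Subgroup G) = Q := by
      rw [hQdef]
      have hn' : (QS : Subgroup G).Normal := hQdef ▸ hQn
      have := Sylow.unique_of_normal QS hn'
      rw [Subsingleton.elim P' QS]
    rw [← h1]
    exact hP' (mem_zpowers u)
  -- `G = Q ⟨b⟩`
  have htop : Q ⊔ zpowers b = ⊤ := by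
    by_contra hne
    have hC : (centralizer (Q : Set G)).Normal := inferInstance
    have hMQ : M ≤ Q ⊔ centralizer (Q : Set G) := by
      have h1 : (Q ⊔ centralizer (Q : Set G)).subgroupOf M = ⊤ := by
        refine eq_top_of_sylow fun s hs => ?_
        have : Fact s.Prime := ⟨hs⟩
        refine ⟨default, fun c hc => ?_⟩
        have hc' : ∃ k : ℕ, orderOf (c : G) = s ^ k := by
          obtain ⟨k, hk⟩ := order_of_mem (default : Sylow s M).isPGroup' hc
          exact ⟨k, by rw [Subgroup.orderOf_coe, hk]⟩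
        rw [mem_subgroupOf]
        by_cases hsq : s = q
        · subst hsq
          exact mem_sup_left (hQall c hc')
        · refine mem_sup_right (mem_centralizer_iff.2 fun u hu => ?_)
          exact (hMc q s hq hs (Ne.symm hsq) u (hQM hu) c c.2 (order_of_mem hQP hu) hc').eq
      rwa [subgroupOf_eq_top] at h1
    have hMb : M ⊔ zpowers b = ⊤ := by
      have h1 : M < M ⊔ zpowers b := by
        refine lt_of_le_of_ne le_sup_left fun h1 => hbM ?_
        rw [h1]
        exact mem_sup_right (mem_zpowers b)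
      have h2 : (M ⊔ zpowers b).index ∣ p := hpdef ▸ index_dvd_of_le h1.le
      rcases (Nat.dvd_prime hidx).1 h2 with h3 | h3
      · exact index_eq_one.1 h3
      · exfalso
        have h4 := index_strictAnti h1
        omega
    -- all elements of `Q` commute with conjugates of `b` under elements of `Q`
    have hkey : ∀ y : Q, ∃ u : Q, u⁻¹ * y * u ∈ (centralizer ({b} : Set G)).subgroupOf Q := by
      intro y
      obtain ⟨g, hg⟩ := h q p hq hidx hqp y b (order_of_mem hQP y.2) hb fun h1 => hne (by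
        rw [← top_le_iff, ← h1]
        exact closure_pair_le (mem_sup_left y.2) (mem_sup_right (mem_zpowers b)))
      obtain ⟨m, hm, i, rfl⟩ := exists_decomp hM hMb g
      have hm' := hMQ hm
      rw [mem_sup_of_normal_left] at hm'
      obtain ⟨u, hu, c, hc, rfl⟩ := hm'
      refine ⟨⟨u, hu⟩, ?_⟩
      rw [mem_subgroupOf, mem_centralizer_singleton_iff]
      have h1 : u * c * b ^ i * b * (u * c * b ^ i)⁻¹ = u * (c * b * c⁻¹) * u⁻¹ := by
        have : b ^ i * b = b * b ^ i := ((Commute.refl b).zpow_left i).eq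
        rw [mul_assoc (u * c), this]
        group
      rw [h1] at hg
      have hw : u⁻¹ * y * u ∈ Q := Q.mul_mem (Q.mul_mem (Q.inv_mem hu) y.2) hu
      have hwc : (u⁻¹ * y * u) * c = c * (u⁻¹ * y * u) := mem_centralizer_iff.1 hc _ hw
      have h2 : (y : G) * (u * (c * b * c⁻¹) * u⁻¹) = (u * (c * b * c⁻¹) * u⁻¹) * y := hg.eq
      have h3 : (u⁻¹ * y * u) * (c * b * c⁻¹) = (c * b * c⁻¹) * (u⁻¹ * y * u) := by
        calc (u⁻¹ * y * u) * (c * b * c⁻¹) = u⁻¹ * (y * (u * (c * b * c⁻¹) * u⁻¹)) * u := by group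
          _ = u⁻¹ * ((u * (c * b * c⁻¹) * u⁻¹) * y) * u := by rw [h2]
          _ = _ := by group
      have h4 : c⁻¹ * (u⁻¹ * y * u) * c = u⁻¹ * y * u := by
        rw [mul_assoc, hwc, inv_mul_cancel_left]
      show (u⁻¹ * y * u) * b = b * (u⁻¹ * y * u)
      calc (u⁻¹ * y * u) * b = (c⁻¹ * (u⁻¹ * y * u) * c) * b := by rw [h4]
        _ = c⁻¹ * ((u⁻¹ * y * u) * (c * b * c⁻¹)) * c := by group
        _ = c⁻¹ * ((c * b * c⁻¹) * (u⁻¹ * y * u)) * c := by rw [h3]
        _ = b * (c⁻¹ * (u⁻¹ * y * u) * c) := by group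
        _ = _ := by rw [h4]
    have hCtop : (centralizer ({b} : Set G)).subgroupOf Q = ⊤ := by
      by_contra hne'
      obtain ⟨y, hy⟩ := LieRecognition.FT61.O3.exists_not_conj _ hne'
      obtain ⟨u, hu⟩ := hkey y
      exact hy u hu
    have h1 : (⟨x, hxQ⟩ : Q) ∈ (centralizer ({b} : Set G)).subgroupOf Q := by
      rw [hCtop]
      exact mem_top _
    rw [mem_subgroupOf, mem_centralizer_singleton_iff] at h1
    exact hxb h1
  -- `b ^ p` centralises `Q`
  have hbp : ∀ u ∈ Q, Commute u (b ^ p) := by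
    intro u hu
    have h1 : b ^ p ∈ M := by
      have := M.pow_index_mem b
      rwa [← hpdef] at this
    refine hMc q p hq hidx hqp u (hQM hu) _ h1 (order_of_mem hQP hu) ?_
    obtain ⟨k, hk⟩ := hb
    obtain ⟨m, -, hm⟩ := (Nat.dvd_prime_pow hidx).1 (hk ▸ orderOf_pow_dvd (x := b) p)
    exact ⟨m, hm⟩
  -- elements of order prime to `p` are in `Q`
  have hQmem : ∀ s : ℕ, s.Prime → s ≠ p → ∀ u : G, (∃ k : ℕ, orderOf u = s ^ k) → u ∈ Q := by
    intro s hs hsp u ⟨k, hk⟩
    obtain ⟨v, hv, i, huv⟩ := exists_decomp hQn htop u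
    have h1 : QuotientGroup.mk' Q u = (QuotientGroup.mk' Q b) ^ i := by
      rw [huv, map_mul, map_zpow, (QuotientGroup.eq_one_iff v).2 hv |> fun h => (show QuotientGroup.mk' Q v = 1 from h),
        one_mul]
    have h2 : orderOf (QuotientGroup.mk' Q u) ∣ s ^ k := hk ▸ orderOf_map_dvd _ u
    obtain ⟨l, hl⟩ := hb
    have h3 : orderOf (QuotientGroup.mk' Q u) ∣ p ^ l := by
      rw [h1]
      exact (orderOf_dvd_of_mem_zpowers (zpow_mem (mem_zpowers _) i)).trans (hl ▸ orderOf_map_dvd _ b)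
    have h5 : orderOf (QuotientGroup.mk' Q u) = 1 :=
      Nat.eq_one_of_dvd_coprimes (Nat.Coprime.pow _ _ ((Nat.coprime_primes hs hidx).mpr hsp)) h2 h3
    rw [orderOf_eq_one_iff] at h5
    exact (QuotientGroup.eq_one_iff u).mp h5
  -- `⟨b⟩` is a Sylow subgroup
  have hsyl : ∀ y : G, (∃ k : ℕ, orderOf y = p ^ k) → ∃ g : G, ∃ i : ℕ, y = g * b ^ i * g⁻¹ := by
    intro y hy
    obtain ⟨P₁, hP₁⟩ := (isPGroup_zpowers hb).exists_le_sylow
    obtain ⟨P₂, hP₂⟩ := (isPGroup_zpowers hy).exists_le_sylow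
    obtain ⟨g, hg⟩ := MulAction.exists_smul_eq G P₁ P₂
    have h1 : y ∈ (P₂ : Subgroup G) := hP₂ (mem_zpowers y)
    have h2 : g⁻¹ * y * g ∈ (P₁ : Subgroup G) := by
      rw [← hg] at h1
      have h3 := (Subgroup.mem_pointwise_smul_iff_inv_smul_mem).1 (show y ∈ MulAut.conj g • (P₁ : Subgroup G) from h1)
      simpa [MulAut.smul_def, MulAut.conj_inv_apply] using h3
    obtain ⟨v, hv, i, hvi⟩ := exists_decomp hQn htop (g⁻¹ * y * g)
    have h4 : v ∈ (P₁ : Subgroup G) := by
      have h5 : v = (g⁻¹ * y * g) * (b ^ i)⁻¹ := by rw [hvi, mul_inv_cancel_right]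
      rw [h5]
      exact mul_mem h2 (inv_mem (zpow_mem (hP₁ (mem_zpowers b)) i))
    have h5 : v = 1 := by
      have h6 := IsPGroup.disjoint_of_ne q p hqp Q (P₁ : Subgroup G) hQP P₁.isPGroup'
      rw [disjoint_def] at h6
      exact h6 hv h4
    rw [h5, one_mul] at hvi
    have h6 : b ^ i ∈ Submonoid.powers b := by
      rw [mem_powers_iff_mem_zpowers]
      exact ⟨i, rfl⟩
    obtain ⟨j, hj⟩ := h6
    refine ⟨g, j, ?_⟩
    have h7 : b ^ j = b ^ i := hj
    rw [h7, ← hvi]
    group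
  -- the key statement
  have hfin : ∀ H : Subgroup G, IsCoatom H → ∀ r : ℕ, r.Prime → r ≠ p → ∀ x ∈ H, ∀ y ∈ H,
      (∃ k : ℕ, orderOf x = r ^ k) → (∃ k : ℕ, orderOf y = p ^ k) → Commute x y := by
    intro H hH r hr hrp x hxH y hyH hx hy
    have hxQ := hQmem r hr hrp x hx
    obtain ⟨g, i, rfl⟩ := hsyl y hy
    by_cases hpi : p ∣ i
    · obtain ⟨j, rfl⟩ := hpi
      have h1 : Commute (g⁻¹ * x * g) (b ^ p) := hbp _ (by
        have := hQn.conj_mem x hxQ g⁻¹
        rwa [inv_inv] at this)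
      have h2 : Commute (g⁻¹ * x * g) (b ^ (p * j)) := by
        rw [pow_mul]
        exact h1.pow_right j
      show x * (g * b ^ (p * j) * g⁻¹) = (g * b ^ (p * j) * g⁻¹) * x
      calc x * (g * b ^ (p * j) * g⁻¹) = g * ((g⁻¹ * x * g) * b ^ (p * j)) * g⁻¹ := by group
        _ = g * (b ^ (p * j) * (g⁻¹ * x * g)) * g⁻¹ := by rw [h2.eq]
        _ = _ := by group
    · have h1 : g * b ^ i * g⁻¹ = (g * b * g⁻¹) ^ i := by
        rw [conj_pow]
      have hbg : ∃ k : ℕ, orderOf (g * b * g⁻¹) = p ^ k := by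
        obtain ⟨k, hk⟩ := hb
        refine ⟨k, ?_⟩
        rw [← hk]
        exact orderOf_injective (MulAut.conj g).toMonoidHom (MulAut.conj g).injective b
      have hcop : (orderOf (g * b * g⁻¹)).Coprime i := by
        obtain ⟨k, hk⟩ := hbg
        rw [hk]
        exact Nat.Coprime.pow_left k ((Nat.Prime.coprime_iff_not_dvd hidx).2 hpi)
      have hbH : g * b * g⁻¹ ∈ H := by
        obtain ⟨m, hm⟩ := exists_pow_eq_self_of_coprime hcop.symm
        rw [← hm, ← h1]
        exact H.pow_mem hyH m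
      have htop' : Q ⊔ zpowers (g * b * g⁻¹) = ⊤ := by
        have h2 : (Q ⊔ zpowers b).map (MulAut.conj g).toMonoidHom = ⊤ := by
          rw [htop, ← MonoidHom.range_eq_map, MonoidHom.range_eq_top]
          exact (MulAut.conj g).surjective
        rw [Subgroup.map_sup, MonoidHom.map_zpowers] at h2
        rw [← top_le_iff, ← h2]
        refine sup_le_sup ?_ (le_of_eq rfl)
        rintro _ ⟨u, hu, rfl⟩
        exact hQn.conj_mem u hu g
      have h3 := key_lemma hQn hQP htop' hH hbH (fun u hu hcl =>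
        h q p hq hidx hqp u (g * b * g⁻¹) (order_of_mem hQP hu) hbg hcl) x (mem_inf.2 ⟨hxH, hxQ⟩)
      rw [h1]
      exact h3.pow_right i
  intro H hH
  obtain ⟨H', hH', hle⟩ := (eq_top_or_exists_le_coatom H).resolve_left hH
  refine nilpotent_of_comm fun r s hr hs hrs x y hx hy => ?_
  have hx' : ∃ k : ℕ, orderOf (x : G) = r ^ k := by simpa [Subgroup.orderOf_coe] using hx
  have hy' : ∃ k : ℕ, orderOf (y : G) = s ^ k := by simpa [Subgroup.orderOf_coe] using hy
  have hfin' : Commute (x : G) (y : G) := by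
    by_cases hsp : s = p
    · subst hsp
      exact hfin H' hH' r hr hrs x (hle x.2) y (hle y.2) hx' hy'
    · by_cases hrp : r = p
      · subst hrp
        exact (hfin H' hH' s hs hsp y (hle y.2) x (hle x.2) hy' hx').symm
      · exact hMc r s hr hs hrs x (hmem r hr hrp x hx') y (hmem s hs hsp y hy') hx' hy'
  exact Subtype.ext hfin'.eq

end Cfsg.Agent.H463.MinNN2
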