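import Cfsg.Agent.H463.Sp.All
import Cfsg.Agent.H463.LieAll
import Cfsg.Agent.H463.PairAlt
import Cfsg.Agent.OddHalf.Known
import Cfsg.Agent.S0000

/-! # The coprime pairs in all finite nonabelian simple groups (helper463) -/

set_option autoImplicit false

namespace Cfsg.Agent.H463.PairAll

open Cfsg Cfsg.Agent.H463.Pair

universe u

/-- **`Pair45` for the known simple groups.** -/
theorem of_known {S : Type u} [Group S] [Finite S] (hs : IsSimpleGroup S) (hna : ¬ IsMulCommutative S)
    (h : IsKnownSimple' S) : Pair45 S := by
  rcases OddHalf.Known.classify' hna h with h | ⟨p, -, h⟩ | h | h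
  · exact PairAlt.pair h
  · exact LieAll.pair hs h
  · exact Sp.All.tits h
  · exact Sp.All.pair h

/-- **`Pair45` for all finite nonabelian simple groups.** -/
theorem pair (S : Type u) [Group S] [Finite S] (hs : IsSimpleGroup S) (hna : ¬ IsMulCommutative S) : Pair45 S :=
  have := hs
  of_known hs hna Cfsg.Agent.S0000.result

end Cfsg.Agent.H463.PairAll
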