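import Mathlib
import Cfsg.Agent.H463.Diag
import Cfsg.Agent.H463.SolCase
import Cfsg.Agent.H463.Pair
import Cfsg.Agent.SignalizersComponents.Components
import Cfsg.Agent.SignalizersComponents.ComponentExists

/-!
# Reduction of the pair criteria to simple groups

* `exists_simple_sub` : a non-soluble finite group with trivial soluble radical has a non-abelian simple subgroup `L`
  whose distinct conjugates commute;
* `solvable_of_H45` : if all non-abelian finite simple groups satisfy `Pair45`, the hypothesis of S3845 implies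
  solubility;
* `main` : the conclusion of S3845.
-/

set_option autoImplicit false

universe u

namespace Cfsg.Agent.H463.Red45

open Subgroup SolCase Pair

variable {G : Type*} [Group G]

theorem exists_simple_sub [Finite G] (hG : ¬ Group.IsSolvable G)
    (hR : ∀ N : Subgroup G, N.Normal → Group.IsSolvable ↥N → N = ⊥) :
    ∃ L : Subgroup G, IsComponent L ∧ IsSimpleGroup ↥L ∧ ¬ IsMulCommutative ↥L ∧ center ↥L = ⊥ ∧
      ∀ g : G, Diag.cj g L ≠ L → ∀ x ∈ Diag.cj g L, ∀ y ∈ L, x * y = y * x := by
  have hF : fittingSubgroup G = ⊥ := by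
    rw [fittingSubgroup, sSup_eq_bot]
    rintro N ⟨hN, hN'⟩
    exact hR N hN inferInstance
  obtain ⟨L, hL, -⟩ := SignalizersComponents.ComponentExists.exists_isComponent_le (C := (⊤ : Subgroup G))
    IsSubnormal.top (fun h => hG (Group.isSolvable_of_surjective (f := (⊤ : Subgroup G).subtype)
      (fun x => ⟨⟨x, mem_top x⟩, rfl⟩))) (by
      rw [hF]
      intro x _
      rw [mem_centralizer_iff]
      rintro y hy
      rw [SetLike.mem_coe, mem_bot] at hy
      rw [hy]; simp)
  have hZ : center ↥L = ⊥ := by
    have hn : (layer G).Normal := SignalizersComponents.Components.layer_normal G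
    have hA : layer G ⊓ centralizer (layer G : Set G) = ⊥ := by
      refine hR _ inferInstance (Group.isSolvable_of_comm fun a b => Subtype.ext ?_)
      exact (mem_centralizer_iff.1 b.2.2 a a.2.1)
    rw [eq_bot_iff]
    intro z hz
    have h1 : (z : G) ∈ layer G ⊓ centralizer (layer G : Set G) := by
      refine ⟨SignalizersComponents.Components.component_le_layer hL z.2, ?_⟩
      have h2 : layer G ≤ centralizer ({(z : G)} : Set G) := by
        rw [SignalizersComponents.Components.layer_le_iff]
        intro K hK
        by_cases hKL : K = L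
        · subst hKL
          intro k hk
          rw [mem_centralizer_singleton_iff]
          exact congrArg Subtype.val (mem_center_iff.1 hz ⟨k, hk⟩)
        · intro k hk
          rw [mem_centralizer_singleton_iff]
          exact (mem_centralizer_iff.1 (SignalizersComponents.Components.component_le_centralizer_of_ne hK hL hKL hk) z
            z.2).symm
      exact mem_centralizer_iff.2 fun k hk => mem_centralizer_singleton_iff.1 (h2 hk)
    rw [hA, mem_bot] at h1
    rw [mem_bot]
    exact Subtype.ext h1
  have hs : IsSimpleGroup ↥L := by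
    have hnt := SignalizersComponents.Components.quasisimple_nontrivial hL.2
    refine { eq_bot_or_eq_top_of_normal := fun N hN => ?_ }
    rcases SignalizersComponents.Components.quasisimple_normal hL.2 N hN with h | h
    · right; exact h
    · left; rwa [hZ, le_bot_iff] at h
  refine ⟨L, hL, hs, SignalizersComponents.Components.quasisimple_not_isMulCommutative hL.2, hZ, ?_⟩
  intro g hg x hx y hy
  exact (mem_centralizer_iff.1 (SignalizersComponents.Components.component_le_centralizer_of_ne
    (SignalizersComponents.Components.isComponent_conj g hL) hL hg hx) y hy).symm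

theorem exists_simple_quot {G : Type u} [Group G] [Finite G] (hG : ¬ Group.IsSolvable G) :
    ∃ R : Subgroup G, ∃ _ : R.Normal, Group.IsSolvable ↥R ∧ ¬ Group.IsSolvable (G ⧸ R) ∧
      ∀ N : Subgroup (G ⧸ R), N.Normal → Group.IsSolvable ↥N → N = ⊥ := by
  obtain ⟨R, hRc, hRs, hR⟩ := SignalizersComponents.ComponentExists.exists_solvableRadical G
  refine ⟨R, inferInstance, hRs, ?_, ?_⟩
  · intro h
    exact hG ((Group.isSolvable_iff_subgroup_quotient R).2 ⟨hRs, h⟩)
  · intro N hN hNs
    have h1 : Group.IsSolvable ↥(N.comap (QuotientGroup.mk' R)) := by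
      refine solvable_of_map (QuotientGroup.mk' R) ?_ ?_
      · rw [map_comap_eq_self_of_surjective (QuotientGroup.mk'_surjective R)]; exact hNs
      · rw [QuotientGroup.ker_mk']; exact hRs
    have h2 := hR _ inferInstance h1
    rw [eq_bot_iff]
    intro z hz
    obtain ⟨g, rfl⟩ := QuotientGroup.mk'_surjective R z
    exact (QuotientGroup.eq_one_iff g).2 (h2 hz)

theorem solvable_of_H45 (hP : ∀ (S : Type u) [Group S] [Finite S], IsSimpleGroup S → ¬ IsMulCommutative S → Pair45 S)
    {G : Type u} [Group G] [Finite G] (h : H45 G) : Group.IsSolvable G := by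
  by_contra hG
  obtain ⟨R, hRn, hRs, hns, hrad⟩ := exists_simple_quot hG
  obtain ⟨L, -, hs, hna, hZ, hcomm⟩ := exists_simple_sub hns hrad
  have h' : H45 (G ⧸ R) := h.quot R hRs
  obtain ⟨D, hD, hDg⟩ := Diag.exists_diag hZ hcomm
  obtain ⟨r, x, y, hr, hr2, hx, hy, ⟨k, hk⟩, ⟨l, hl⟩, hsol, hc⟩ := hP ↥L hs hna
  have hord : ∀ z, orderOf (D z) = orderOf z := fun z => orderOf_injective D hD z
  have h1 : Group.IsSolvable ↥(closure ({D x, D y} : Set (G ⧸ R))) := by
    have h2 : closure ({D x, D y} : Set (G ⧸ R)) = (closure ({x, y} : Set ↥L)).map D := by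
      rw [MonoidHom.map_closure, Set.image_pair]
    rw [h2]
    have := hsol
    exact Group.isSolvable_of_surjective (f := D.subgroupMap (closure {x, y})) (D.subgroupMap_surjective _)
  obtain ⟨g, hg⟩ := h' r hr hr2 (D x) (D y) (fun h => hx (hD (by rw [h, map_one])))
    (fun h => hy (hD (by rw [h, map_one]))) ⟨k, by rw [hord, hk]⟩ ⟨l, by rw [hord, hl]⟩ h1
  obtain ⟨a, K, π, hK⟩ := hDg g
  obtain ⟨hxK, hyK, h3, h4⟩ := hK x y
  apply hc a
  have h5 : Commute (⟨D x, hxK⟩ : ↥K) ⟨g * D y * g⁻¹, hyK⟩ := Subtype.ext hg.eq
  have h6 := h5.map π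
  rwa [h3, h4] at h6

/-- The conclusion of S3845. -/
theorem main (hP : ∀ (S : Type u) [Group S] [Finite S], IsSimpleGroup S → ¬ IsMulCommutative S → Pair45 S)
    {G : Type u} [Group G] [Finite G] (h : H45 G) (P : Sylow 2 G) : (P : Subgroup G).Normal ∧
      ∃ K : Subgroup G, K.Normal ∧ Subgroup.IsComplement' (P : Subgroup G) K :=
  direct_factor (comm_of_solvable _ G rfl (solvable_of_H45 hP h) h) P

end Cfsg.Agent.H463.Red45
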